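import Cfsg.Agent.H35.ThreeBlock.GoodClass
import Cfsg.Agent.H81.Gallagher

/-!
# At most `k(H/N)` characters lie over an invariant character of `N`
-/

set_option linter.style.haveILetI false
set_option linter.unusedSectionVars false

namespace Cfsg.Agent.H35.SolvBlock

open CharBasic CharInduce Cfsg.Agent.H35.ThreeBlock
open scoped ComplexConjugate

universe u

variable {H : Type u} [Group H] [Fintype H] {N : Subgroup H} [hN : N.Normal] [Fintype N]
  {θ : N → ℂ}

/-- On a coset of `N` a character over `θ` is a multiple of the extension of `θ`. -/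
theorem exists_scalar (hθ : IsIrrCharacter N θ) (hinv : ∀ g : H, conjFun N θ g = θ)
    {x : H} {f : H → ℂ} (hf : IsExtAt N θ x f) (β : IrrCharacter H)
    (hβ : classInner (fun n : N => (β : H → ℂ) n) θ ≠ 0) :
    ∃ c : ℂ, ∀ z : H, (z : H ⧸ N) = x → (β : H → ℂ) z = c * f z := by
  classical
  set K := cycOver N x
  obtain ⟨χ, hχ, hr, hfχ⟩ := hf
  haveI := Fintype.ofFinite K
  set N' := N.subgroupOf K
  haveI := Fintype.ofFinite N'
  let e : N' ≃* N := Subgroup.subgroupOfEquivOfLe (le_cycOver N x)
  set a : K → ℂ := fun k => (β : H → ℂ) k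
  have ha : IsCharacter K a := CharInduce.IsChar.comp (CharBasic.IsIrr.isCharacter β.2) K.subtype
  have hχN : (fun n : N' => χ n) = fun n : N' => θ (e n) := funext fun n => hr (e n)
  have hres : IsIrrCharacter N' (fun n : N' => χ n) := by
    rw [hχN]
    exact CharInduce.IsIrr.comp hθ e.toMonoidHom e.surjective
  have hβN : ∀ n : N, (β : H → ℂ) n = classInner (fun m : N => (β : H → ℂ) m) θ * θ n := fun n => by
    have h := congrFun (res_eq_smul_of_invariant N β.2 hθ hinv hβ) n
    simpa [smul_eq_mul] using h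
  have hexp := classFunction_expansion (IsChar.isClassFunction ha)
  have hcon : ∀ φ : IrrCharacter K, classInner a (φ : K → ℂ) ≠ 0 →
      ∃ b : IrrCharacter (K ⧸ N'), (φ : K → ℂ) = fun g => χ g * H81.inflate N' b g := by
    intro φ hφ
    refine H81.exists_eq_mul_inflate N' hχ hres φ.2 ?_
    have hne : classInner (fun n : N => (φ : K → ℂ) (Subgroup.inclusion (le_cycOver N x) n)) θ ≠ 0 := by
      obtain ⟨s, hs, hsum⟩ := IsChar.exists_eq_add ha φ.2 hφ
      set f := Subgroup.inclusion (le_cycOver N x)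
      have hφN := CharInduce.IsChar.comp (CharBasic.IsIrr.isCharacter φ.2) f
      obtain ⟨δ, hδ⟩ := exists_constituent hφN (fun h => CharBasic.IsIrr.one_ne_zero φ.2 (by
        have h1 : (φ : K → ℂ) (f 1) = 0 := congrFun h 1
        rwa [map_one] at h1))
      rcases eq_or_ne θ (δ : N → ℂ) with h | h
      · rwa [h]
      exfalso
      obtain ⟨i, hi⟩ := classInner_isChar_nat hφN (CharBasic.IsIrr.isCharacter δ.2)
      obtain ⟨j, hj⟩ := classInner_isChar_nat (CharInduce.IsChar.comp hs f)
        (CharBasic.IsIrr.isCharacter δ.2)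
      have h1 : (fun n : N => a (f n)) =
          classInner (fun m : N => (β : H → ℂ) m) θ • θ := funext fun n => hβN n
      have h2 : (fun n : N => a (f n)) = (fun n => (φ : K → ℂ) (f n)) + fun n => s (f n) :=
        funext fun n => by rw [hsum]; rfl
      have h3 : classInner (fun n : N => a (f n)) (δ : N → ℂ) = 0 := by
        rw [h1, classInner_smul_left, classInner_irr_of_ne hθ δ.2 h, mul_zero]
      rw [h2, classInner_add_left, hi, hj] at h3
      have h4 : i + j = 0 := by exact_mod_cast h3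
      exact hδ (by rw [hi, (Nat.add_eq_zero_iff.1 h4).1, Nat.cast_zero])
    rw [hχN, classInner_def] at *
    intro h0
    apply hne
    rw [← h0, Nat.card_congr e.toEquiv]
    congr 1
    refine (Fintype.sum_equiv e.toEquiv _ _ fun n => ?_).symm
    rfl
  choose b hb using hcon
  refine ⟨∑ φ : IrrCharacter K, if h : classInner a (φ : K → ℂ) ≠ 0 then
    classInner a (φ : K → ℂ) * (b φ h : K ⧸ N' → ℂ) ((⟨x, self_mem_cycOver N x⟩ : K) : K ⧸ N')
    else 0, fun z hz => ?_⟩
  have hzK : z ∈ K := (mem_cycOver N).2 (hz ▸ Subgroup.mem_zpowers _)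
  have hq : ((⟨z, hzK⟩ : K) : K ⧸ N') = ((⟨x, self_mem_cycOver N x⟩ : K) : K ⧸ N') := by
    refine QuotientGroup.eq.2 ?_
    rw [Subgroup.mem_subgroupOf]
    exact QuotientGroup.eq.1 hz
  have h1 := congrFun hexp ⟨z, hzK⟩
  simp only [Finset.sum_apply, Pi.smul_apply, smul_eq_mul] at h1
  show a ⟨z, hzK⟩ = _
  rw [h1, Finset.sum_mul]
  refine Finset.sum_congr rfl fun φ _ => ?_
  split_ifs with h
  · rw [hfχ z hzK]
    rw [congrFun (hb φ h) ⟨z, hzK⟩]
    simp only [H81.inflate, hq]
    ring
  · rw [not_not] at h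
    rw [h]; ring

/-- At most `k(H/N)` irreducible characters lie over an invariant character. -/
theorem card_over_le (hθ : IsIrrCharacter N θ) (hinv : ∀ g : H, conjFun N θ g = θ) :
    Nat.card {β : IrrCharacter H // classInner (fun n : N => (β : H → ℂ) n) θ ≠ 0} ≤
      Nat.card (ConjClasses (H ⧸ N)) := by
  classical
  haveI := Fintype.ofFinite (ConjClasses (H ⧸ N))
  set X := {β : IrrCharacter H // classInner (fun n : N => (β : H → ℂ) n) θ ≠ 0}
  haveI := Fintype.ofFinite X
  have hrep : ∀ C : ConjClasses (H ⧸ N), ∃ z : H, ConjClasses.mk (z : H ⧸ N) = C ∧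
      ∀ β : X, (β.1 : H → ℂ) z = 0 → ∀ y : H, (y : H ⧸ N) = z → (β.1 : H → ℂ) y = 0 := by
    intro C
    obtain ⟨q, rfl⟩ := ConjClasses.mk_surjective C
    obtain ⟨x, rfl⟩ := QuotientGroup.mk_surjective q
    obtain ⟨f, hf⟩ := exists_extAt hθ hinv x
    obtain ⟨z, hz, hz0⟩ := exists_coset_ne_zero hθ hf
    refine ⟨z, by rw [hz], fun β hβ y hy => ?_⟩
    obtain ⟨c, hc⟩ := exists_scalar hθ hinv hf β.1 β.2
    rw [hc z hz, mul_eq_zero] at hβ
    rw [hc y (hy.trans hz), hβ.resolve_right hz0, zero_mul]
  choose z hzC hz0 using hrep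
  set W : X → ConjClasses (H ⧸ N) → ℂ := fun β C => (β.1 : H → ℂ) (z C)
  have hli : LinearIndependent ℂ W := by
    rw [Fintype.linearIndependent_iff]
    intro a ha
    set F : H → ℂ := fun y => ∑ β : X, a β * (β.1 : H → ℂ) y
    have hzero : ∀ C, F (z C) = 0 := fun C => by
      have h1 := congrFun ha C
      simpa [W, F, smul_eq_mul, Finset.sum_apply] using h1
    have hF : ∀ y : H, F y = 0 := by
      intro y
      obtain ⟨q, hq⟩ := isConj_iff.1 (ConjClasses.mk_eq_mk_iff_isConj.1
        (hzC (ConjClasses.mk (y : H ⧸ N))).symm)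
      obtain ⟨g, rfl⟩ := QuotientGroup.mk_surjective q
      have hy : ((g * y * g⁻¹ : H) : H ⧸ N) = (z (ConjClasses.mk (y : H ⧸ N)) : H ⧸ N) := by
        rw [← hq]; rfl
      set C := ConjClasses.mk (y : H ⧸ N)
      obtain ⟨f, hf⟩ := exists_extAt hθ hinv (z C)
      choose c hc using fun β : X => exists_scalar hθ hinv hf β.1 β.2
      have hsum : ∀ v : H, (v : H ⧸ N) = z C → F v = (∑ β : X, a β * c β) * f v := fun v hv => by
        simp only [F, Finset.sum_mul]
        exact Finset.sum_congr rfl fun β _ => by rw [hc β v hv]; ring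
      have hcl : F y = F (g * y * g⁻¹) :=
        Finset.sum_congr rfl fun β _ => by rw [CharBasic.IsIrr.isClassFunction β.1.2 y g]
      rcases eq_or_ne (f (z C)) 0 with h0 | h0
      · -- all characters vanish on this coset
        rw [hcl]
        refine Finset.sum_eq_zero fun β _ => ?_
        rw [hz0 C β (by rw [hc β _ rfl, h0, mul_zero]) _ hy, mul_zero]
      · have h1 := hzero C
        rw [hsum _ rfl, mul_eq_zero] at h1
        rw [hcl, hsum _ hy, h1.resolve_right h0, zero_mul]
    have hli0 : LinearIndependent ℂ (fun β : X => (β.1 : H → ℂ)) :=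
      linearIndependent_irr.comp (fun β : X => β.1) Subtype.val_injective
    exact Fintype.linearIndependent_iff.1 hli0 a (funext fun y => by
      simpa [F, smul_eq_mul, Finset.sum_apply] using hF y)
  have h := hli.fintype_card_le_finrank
  rw [Module.finrank_fintype_fun_eq_card] at h
  rwa [Nat.card_eq_fintype_card, Nat.card_eq_fintype_card]

end Cfsg.Agent.H35.SolvBlock
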