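import Mathlib

/-!
# Splitting an abelian normal subgroup by commuting coprime elements
-/

set_option linter.style.haveILetI false
set_option linter.unusedSectionVars false

namespace Cfsg.Agent.H35.SolvBlock

open Subgroup

universe u

variable {Y : Type u} [Group Y] {V : Subgroup Y} [hV : V.Normal] {p : ℕ}

/-- `v ↦ (v b) ^ k * b ^ (-k)`, the product of `k` conjugates of `v`. -/
def twist (b : Y) (k : ℕ) (v : Y) : Y := (v * b) ^ k * (b ^ k)⁻¹

theorem twist_succ (b : Y) (k : ℕ) (v : Y) :
    twist b (k + 1) v = v * (b * twist b k v * b⁻¹) := by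
  simp only [twist, pow_succ']
  group

theorem twist_mem (b : Y) (k : ℕ) {v : Y} (hv : v ∈ V) : twist b k v ∈ V := by
  induction k with
  | zero => simp [twist]
  | succ k ih => rw [twist_succ]; exact V.mul_mem hv (hV.conj_mem _ ih b)

theorem twist_mul (hab : ∀ a ∈ V, ∀ b ∈ V, a * b = b * a) (b : Y) (k : ℕ) {v w : Y} (hv : v ∈ V)
    (hw : w ∈ V) : twist b k (v * w) = twist b k v * twist b k w := by
  induction k with
  | zero => simp [twist]
  | succ k ih =>
    rw [twist_succ, twist_succ, twist_succ, ih,
      show b * (twist b k v * twist b k w) * b⁻¹ =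
        (b * twist b k v * b⁻¹) * (b * twist b k w * b⁻¹) by group,
      mul_assoc v w, ← mul_assoc w, hab w hw _ (hV.conj_mem _ (twist_mem b k hv) b)]
    group

theorem twist_conj (b y : Y) (k : ℕ) (v : Y) :
    twist (y * b * y⁻¹) k (y * v * y⁻¹) = y * twist b k v * y⁻¹ := by
  simp only [twist, show y * v * y⁻¹ * (y * b * y⁻¹) = y * (v * b) * y⁻¹ by group, conj_pow]
  group

theorem twist_comm (hab : ∀ a ∈ V, ∀ b ∈ V, a * b = b * a) {b c : Y} (hbc : b * c = c * b)
    (k l : ℕ) {v : Y} (hv : v ∈ V) :
    twist b k (twist c l v) = twist c l (twist b k v) := by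
  induction l with
  | zero =>
    have h1 : ∀ k, twist b k (1 : Y) = 1 := fun k => by simp [twist]
    simpa [twist] using h1 k
  | succ l ih =>
    rw [twist_succ, twist_succ, twist_mul hab b k hv (hV.conj_mem _ (twist_mem c l hv) c), ← ih]
    congr 1
    have h := twist_conj b c k (twist c l v)
    rwa [← hbc, mul_inv_cancel_right] at h

theorem twist_fixed {b v : Y} (hbv : b * v = v * b) (k : ℕ) : twist b k v = v ^ k := by
  rw [twist, (show Commute v b from hbv.symm).mul_pow, mul_inv_cancel_right]

/-- The norm of `b` on `V`. -/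
noncomputable def normMap (b : Y) (v : Y) : Y := twist b (orderOf b) v

theorem normMap_eq (b v : Y) : normMap b v = (v * b) ^ orderOf b := by
  simp [normMap, twist, pow_orderOf_eq_one]

theorem normMap_fixed (hab : ∀ a ∈ V, ∀ b ∈ V, a * b = b * a) {b v : Y} (hv : v ∈ V) :
    b * normMap b v = normMap b v * b := by
  have h1 : Commute (normMap b v) (v * b) := by
    rw [normMap_eq]; exact Commute.pow_self _ _
  have h2 : Commute (normMap b v) v := hab _ (twist_mem b _ hv) v hv
  have h3 : Commute (normMap b v) (v⁻¹ * (v * b)) := h2.inv_right.mul_right h1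
  rw [inv_mul_cancel_left] at h3
  exact h3.symm.eq

/-- The piece fixed by `T` and annihilated by the norms of `s \ T`. -/
noncomputable def piece (hab : ∀ a ∈ V, ∀ b ∈ V, a * b = b * a) (s T : Finset Y) : Subgroup Y where
  carrier := {v | v ∈ V ∧ (∀ b ∈ T, b * v = v * b) ∧ ∀ b ∈ s, b ∉ T → normMap b v = 1}
  one_mem' := ⟨one_mem V, fun b _ => by simp, fun b _ _ => by simp [normMap, twist]⟩
  mul_mem' := fun {v w} hv hw => ⟨mul_mem hv.1 hw.1,
    fun b hb => ((show Commute b v from hv.2.1 b hb).mul_right (hw.2.1 b hb)).eq,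
    fun b hb hbT => by
      rw [normMap, twist_mul hab b _ hv.1 hw.1]
      exact (congrArg₂ (· * ·) (hv.2.2 b hb hbT) (hw.2.2 b hb hbT)).trans (mul_one 1)⟩
  inv_mem' := fun {v} hv => ⟨inv_mem hv.1, fun b hb => ((show Commute b v from hv.2.1 b hb).inv_right).eq,
    fun b hb hbT => by
      have h1 : normMap b (v * v⁻¹) = normMap b v * normMap b v⁻¹ :=
        twist_mul hab b _ hv.1 (inv_mem hv.1)
      rw [mul_inv_cancel, hv.2.2 b hb hbT, one_mul] at h1
      rw [← h1]
      simp [normMap, twist]⟩

variable {hab : ∀ a ∈ V, ∀ b ∈ V, a * b = b * a}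

theorem piece_le (s T : Finset Y) : piece hab s T ≤ V := fun _ h => h.1

theorem conj_piece [DecidableEq Y] (y : Y) (s T : Finset Y) :
    (piece hab s T).map (MulAut.conj y).toMonoidHom =
      piece hab (s.image fun b => y * b * y⁻¹) (T.image fun b => y * b * y⁻¹) := by
  have main : ∀ (y : Y) (s T : Finset Y), ∀ v ∈ piece hab s T, y * v * y⁻¹ ∈
      piece hab (s.image fun b => y * b * y⁻¹) (T.image fun b => y * b * y⁻¹) := by
    rintro y s T v ⟨hv, hfix, hker⟩
    refine ⟨hV.conj_mem v hv y, fun b hb => ?_, fun b hb hbT => ?_⟩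
    · obtain ⟨b, hb', rfl⟩ := Finset.mem_image.1 hb
      rw [show y * b * y⁻¹ * (y * v * y⁻¹) = y * (b * v) * y⁻¹ by group, hfix b hb']
      group
    · obtain ⟨b, hb', rfl⟩ := Finset.mem_image.1 hb
      have h := hker b hb' fun h => hbT (Finset.mem_image_of_mem _ h)
      rw [normMap, show orderOf (y * b * y⁻¹) = orderOf b from
        orderOf_injective (MulAut.conj y).toMonoidHom (MulAut.conj y).injective b, twist_conj]
      rw [normMap] at h
      rw [h]; group
  apply le_antisymm
  · rintro _ ⟨v, hv, rfl⟩
    exact main y s T v hv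
  · intro v hv
    have h := main y⁻¹ _ _ v hv
    simp only [Finset.image_image, Function.comp_def, inv_inv] at h
    simp only [show ∀ b : Y, y⁻¹ * (y * b * y⁻¹) * y = b from fun b => by group,
      Finset.image_id'] at h
    exact ⟨_, h, by simp [mul_assoc]⟩

variable [Finite Y]

/-- The pieces generate. -/
theorem le_iSup_piece (hpow : ∀ v ∈ V, v ^ p = 1) (s : Finset Y)
    (hs : ∀ b ∈ s, (orderOf b).Coprime p) (hcomm : ∀ b ∈ s, ∀ c ∈ s, b * c = c * b) :
    V ≤ ⨆ T ∈ s.powerset, piece hab s T := by
  classical
  induction s using Finset.induction_on with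
  | empty =>
    intro v hv
    exact le_iSup₂_of_le (f := fun T _ => piece hab ∅ T) ∅ (by simp) le_rfl
      ⟨hv, by simp, by simp⟩
  | @insert b s hbs ih =>
    refine (ih (fun c hc => hs c (Finset.mem_insert_of_mem hc))
      (fun c hc d hd => hcomm c (Finset.mem_insert_of_mem hc) d (Finset.mem_insert_of_mem hd))).trans
      (iSup₂_le fun T hT => ?_)
    rw [Finset.mem_powerset] at hT
    intro v hv
    obtain ⟨hvV, hfix, hker⟩ := hv
    obtain ⟨c, hc⟩ : ∃ c : ℕ, ∀ w ∈ V, (w ^ orderOf b) ^ c = w := by
      refine ⟨((orderOf b : ℕ) : ZMod p)⁻¹.val, fun w hw => ?_⟩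
      rw [← pow_mul]
      conv_rhs => rw [← pow_one w]
      refine pow_eq_pow_iff_modEq.2 (Nat.ModEq.of_dvd (orderOf_dvd_of_pow_eq_one (hpow w hw)) ?_)
      rcases p with _ | p
      · have := Nat.coprime_zero_right _ |>.1 (hs b (Finset.mem_insert_self b s))
        simp [this]
      rw [← ZMod.natCast_eq_natCast_iff, Nat.cast_mul, ZMod.natCast_zmod_val, Nat.cast_one,
        ZMod.coe_mul_inv_eq_one _ (hs b (Finset.mem_insert_self b s))]
    set v0 := normMap b v ^ c
    have hN : normMap b v ∈ V := twist_mem b _ hvV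
    have hv0 : v0 ∈ V := pow_mem hN c
    have hb0 : b * v0 = v0 * b :=
      ((show Commute b (normMap b v) from normMap_fixed hab hvV).pow_right c).eq
    have hfix0 : ∀ d ∈ T, d * v0 = v0 * d := by
      intro d hd
      refine ((show Commute d (normMap b v) from ?_).pow_right c).eq
      have hdb : b * d = d * b :=
        hcomm b (Finset.mem_insert_self b s) d (Finset.mem_insert_of_mem (hT hd))
      have h := twist_conj b d (orderOf b) v
      rw [← hdb, mul_inv_cancel_right, hfix d hd, mul_inv_cancel_right] at h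
      rw [commute_iff_eq]
      exact eq_mul_inv_iff_mul_eq.1 h |>.symm
    have hker0 : ∀ d ∈ s, d ∉ T → normMap d v0 = 1 := by
      intro d hd hdT
      have hdb : d * b = b * d :=
        hcomm d (Finset.mem_insert_of_mem hd) b (Finset.mem_insert_self b s)
      have h1 : normMap d (normMap b v) = 1 := by
        show twist d (orderOf d) (twist b (orderOf b) v) = 1
        rw [twist_comm hab hdb _ _ hvV, show twist d (orderOf d) v = 1 from hker d hd hdT]
        simp [twist]
      have h2 : ∀ k : ℕ, normMap d (normMap b v ^ k) = 1 := by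
        intro k
        induction k with
        | zero => simp [normMap, twist]
        | succ k ih =>
          rw [normMap, pow_succ, twist_mul hab d _ (pow_mem hN k) hN]
          exact (congrArg₂ (· * ·) ih h1).trans (mul_one 1)
      exact h2 c
    have hw0 : v0 ∈ piece hab (insert b s) (insert b T) := by
      refine ⟨hv0, fun d hd => ?_, fun d hd hdT => ?_⟩
      · rcases Finset.mem_insert.1 hd with rfl | hd
        · exact hb0
        · exact hfix0 d hd
      · rw [Finset.mem_insert, not_or] at hdT
        exact hker0 d ((Finset.mem_insert.1 hd).resolve_left hdT.1) hdT.2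
    have hw1 : v0⁻¹ * v ∈ piece hab (insert b s) T := by
      refine ⟨mul_mem (inv_mem hv0) hvV, fun d hd => ?_, fun d hd hdT => ?_⟩
      · exact ((show Commute d v0 from hfix0 d hd).inv_right.mul_right (hfix d hd)).eq
      · rw [normMap, twist_mul hab d _ (inv_mem hv0) hvV]
        rcases Finset.mem_insert.1 hd with rfl | hd
        · rw [twist_fixed ((show Commute d v0 from hb0).inv_right).eq]
          show v0⁻¹ ^ orderOf d * normMap d v = 1
          rw [inv_pow, ← pow_mul, mul_comm c, pow_mul, hc _ hN, inv_mul_cancel]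
        · have h1 := (piece hab {d} ∅).inv_mem (x := v0)
            ⟨hv0, by simp, fun e he _ => by
              obtain rfl := Finset.mem_singleton.1 he
              exact hker0 e hd hdT⟩
          exact (congrArg₂ (· * ·) (h1.2.2 d (Finset.mem_singleton_self d) (by simp))
            (hker d hd hdT)).trans (mul_one 1)
    rw [← mul_inv_cancel_left v0 v]
    refine mul_mem (le_iSup₂_of_le (f := fun T _ => piece hab (insert b s) T) (insert b T)
      (Finset.mem_powerset.2 (Finset.insert_subset_insert b hT)) le_rfl hw0)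
      (le_iSup₂_of_le (f := fun T _ => piece hab (insert b s) T) T
        (Finset.mem_powerset.2 (hT.trans (Finset.subset_insert b s))) le_rfl hw1)

/-- Different pieces are independent. -/
theorem piece_inf_iSup (hpow : ∀ v ∈ V, v ^ p = 1) (s : Finset Y)
    (hs : ∀ b ∈ s, (orderOf b).Coprime p) {T : Finset Y} (hT : T ⊆ s) :
    piece hab s T ⊓ ⨆ T' ∈ s.powerset, ⨆ (_ : T' ≠ T), piece hab s T' = ⊥ := by
  classical
  -- `π l` multiplies by norms and co-norms along the list `l`
  let step : Y → Y → Y := fun b v =>
    if b ∈ T then normMap b v else v ^ orderOf b * (normMap b v)⁻¹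
  let π : List Y → Y → Y := fun l v => l.foldr step v
  let ex : Y → ℕ := fun b => orderOf b
  have hπV : ∀ l v, v ∈ V → π l v ∈ V := by
    intro l v hv
    induction l with
    | nil => exact hv
    | cons b l ih =>
      show step b (π l v) ∈ V
      simp only [step]
      split_ifs
      · exact twist_mem b _ ih
      · exact mul_mem (pow_mem ih _) (inv_mem (twist_mem b _ ih))
  have hπmul : ∀ l, ∀ v ∈ V, ∀ w ∈ V, π l (v * w) = π l v * π l w := by
    intro l v hv w hw
    induction l with
    | nil => rfl
    | cons b l ih =>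
      show step b (π l (v * w)) = step b (π l v) * step b (π l w)
      rw [ih]
      have a := hπV l v hv
      have c := hπV l w hw
      simp only [step]
      split_ifs
      · exact twist_mul hab b _ a c
      · rw [normMap, twist_mul hab b _ a c, (show Commute _ _ from hab _ a _ c).mul_pow,
          mul_inv_rev, mul_assoc (π l v ^ _), mul_assoc (π l v ^ _)]
        congr 1
        rw [← mul_assoc]
        exact hab _ (mul_mem (pow_mem c _) (inv_mem (twist_mem b _ c))) _
          (inv_mem (twist_mem b _ a))
  have hself : ∀ l : List Y, (∀ b ∈ l, b ∈ s) → ∀ v ∈ piece hab s T,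
      π l v = v ^ (l.map ex).prod := by
    intro l hl v hv
    induction l with
    | nil => simp [π]
    | cons b l ih =>
      show step b (π l v) = _
      rw [ih (fun c hc => hl c (List.mem_cons_of_mem b hc)), List.map_cons, List.prod_cons]
      have hm : v ^ (l.map ex).prod ∈ piece hab s T := pow_mem hv _
      simp only [step]
      split_ifs with hbT
      · rw [normMap, twist_fixed (hm.2.1 b hbT), ← pow_mul, mul_comm]
      · rw [hm.2.2 b (hl b List.mem_cons_self) hbT, inv_one, mul_one, ← pow_mul, mul_comm]
  have hother : ∀ l : List Y, (∀ b ∈ l, b ∈ s) → ∀ T' : Finset Y, ∀ v ∈ piece hab s T',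
      π l v ∈ piece hab s T' ∧ ((∃ b ∈ l, ¬ (b ∈ T ↔ b ∈ T')) → π l v = 1) := by
    intro l hl T' v hv
    induction l with
    | nil => exact ⟨hv, by simp⟩
    | cons b l ih =>
      obtain ⟨hmem, hone⟩ := ih fun c hc => hl c (List.mem_cons_of_mem b hc)
      have hb := hl b List.mem_cons_self
      change step b (π l v) ∈ _ ∧ (_ → step b (π l v) = 1)
      by_cases hbT' : b ∈ T'
      · have e : normMap b (π l v) = π l v ^ orderOf b := twist_fixed (hmem.2.1 b hbT') _
        by_cases hbT : b ∈ T
        · simp only [step, if_pos hbT, e]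
          refine ⟨pow_mem hmem _, ?_⟩
          rintro ⟨c, hc, hcne⟩
          rcases List.mem_cons.1 hc with rfl | hc
          · exact absurd (iff_of_true hbT hbT') hcne
          · rw [hone ⟨c, hc, hcne⟩, one_pow]
        · simp only [step, if_neg hbT, e, mul_inv_cancel, implies_true, and_true]
          exact one_mem _
      · have e : normMap b (π l v) = 1 := hmem.2.2 b hb hbT'
        by_cases hbT : b ∈ T
        · simp only [step, if_pos hbT, e, implies_true, and_true]
          exact one_mem _
        · simp only [step, if_neg hbT, e, inv_one, mul_one]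
          refine ⟨pow_mem hmem _, ?_⟩
          rintro ⟨c, hc, hcne⟩
          rcases List.mem_cons.1 hc with rfl | hc
          · exact absurd (iff_of_false hbT hbT') hcne
          · rw [hone ⟨c, hc, hcne⟩, one_pow]
  let Φ : V →* Y :=
    { toFun := fun v => π s.toList v
      map_one' := by
        have h := hπmul s.toList 1 (one_mem V) 1 (one_mem V)
        rw [mul_one] at h
        exact left_eq_mul.1 h
      map_mul' := fun v w => hπmul s.toList v v.2 w w.2 }
  have hle : (⨆ T' ∈ s.powerset, ⨆ (_ : T' ≠ T), piece hab s T') ≤ Φ.ker.map V.subtype := by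
    refine iSup₂_le fun T' hT' => iSup_le fun hne => fun v hv => ?_
    refine ⟨⟨v, hv.1⟩, (hother s.toList (fun b hb => Finset.mem_toList.1 hb) T' v hv).2 ?_, rfl⟩
    by_contra hno
    push Not at hno
    refine hne (Finset.ext fun b => ?_)
    by_cases hb : b ∈ s
    · exact (hno b (Finset.mem_toList.2 hb)).symm
    · exact iff_of_false (fun h => hb (Finset.mem_powerset.1 hT' h)) fun h => hb (hT h)
  rw [eq_bot_iff]
  rintro v ⟨hv, hv'⟩
  obtain ⟨⟨w, hw⟩, hwker, rfl⟩ := hle hv'
  have h1 : π s.toList w = 1 := hwker
  have h1' := hself s.toList (fun b hb => Finset.mem_toList.1 hb) w hv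
  rw [h1] at h1'
  have hcop : ((s.toList.map ex).prod).Coprime p := by
    refine Nat.coprime_list_prod_left_iff.2 fun m hm => ?_
    obtain ⟨b, hb, rfl⟩ := List.mem_map.1 hm
    exact hs b (Finset.mem_toList.1 hb)
  have h2 := pow_gcd_eq_one.2 ⟨h1'.symm, hpow w hw⟩
  rw [hcop.gcd_eq_one, pow_one] at h2
  exact Subgroup.mem_bot.2 h2

end Cfsg.Agent.H35.SolvBlock
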