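import Mathlib

/-!
# Representations over the prime field of groups of order prime to the characteristic lift to `ℂ`
-/

namespace Cfsg.Agent.H35.SolvBlock

open Cardinal

universe u

variable {p : ℕ} [hp : Fact p.Prime]

/-- The ring of `p`-adic integers embeds into the complex numbers. -/
theorem exists_padicInt_complex : ∃ f : ℤ_[p] →+* ℂ, Function.Injective f := by
  have hlo : continuum ≤ #ℚ_[p] := continuum_le_cardinal_of_nontriviallyNormedField ℚ_[p]
  have hhi : #ℚ_[p] ≤ continuum := by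
    have h1 : #ℚ_[p] ≤ #(PadicSeq p) := Cardinal.mk_quotient_le
    have h2 : #(PadicSeq p) ≤ #(ℕ → ℚ) := Cardinal.mk_subtype_le _
    refine h1.trans (h2.trans (le_of_eq ?_))
    rw [← Cardinal.power_def, Cardinal.mkRat, Cardinal.mk_nat, Cardinal.aleph0_power_aleph0]
  have hK : #(AlgebraicClosure ℚ_[p]) = continuum := by
    refine le_antisymm ?_ (hlo.trans
      (Cardinal.mk_le_of_injective (algebraMap ℚ_[p] (AlgebraicClosure ℚ_[p])).injective))
    exact (Algebra.IsAlgebraic.cardinalMk_le_max ℚ_[p] _).trans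
      (max_le hhi Cardinal.aleph0_le_continuum)
  haveI : CharZero (AlgebraicClosure ℚ_[p]) :=
    charZero_of_injective_algebraMap (algebraMap ℚ_[p] (AlgebraicClosure ℚ_[p])).injective
  obtain ⟨e⟩ := IsAlgClosed.ringEquiv_of_equiv_of_charZero (K := AlgebraicClosure ℚ_[p]) (L := ℂ)
    (hK ▸ Cardinal.aleph0_lt_continuum) (Cardinal.eq.1 (hK.trans Cardinal.mk_complex.symm))
  exact ⟨e.toRingHom.comp ((algebraMap ℚ_[p] _).comp PadicInt.Coe.ringHom),
    e.injective.comp ((algebraMap ℚ_[p] _).injective.comp Subtype.coe_injective)⟩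

variable {n : ℕ}

/-- Reduction from level `k + 2` to level `k + 1`. -/
def redHom (p n k : ℕ) : GL (Fin n) (ZMod (p ^ (k + 2))) →* GL (Fin n) (ZMod (p ^ (k + 1))) :=
  Matrix.GeneralLinearGroup.map (ZMod.castHom (pow_dvd_pow p (Nat.le_succ (k + 1))) _)

theorem red_dvd {k : ℕ} {x : ZMod (p ^ (k + 2))}
    (h : ZMod.castHom (pow_dvd_pow p (Nat.le_succ (k + 1))) (ZMod (p ^ (k + 1))) x = 0) :
    ∃ y, x = (p : ZMod (p ^ (k + 2))) ^ (k + 1) * y := by
  rw [← ZMod.natCast_zmod_val x, map_natCast, ZMod.natCast_eq_zero_iff] at h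
  obtain ⟨c, hc⟩ := h
  exact ⟨c, by rw [← ZMod.natCast_zmod_val x, hc]; push_cast; rfl⟩

theorem pow_eq_one_of_mem_ker {k : ℕ} {g : GL (Fin n) (ZMod (p ^ (k + 2)))}
    (hg : g ∈ (redHom p n k).ker) : g ^ p = 1 := by
  have h1 := congrArg Units.val (MonoidHom.mem_ker.1 hg)
  set A : Matrix (Fin n) (Fin n) (ZMod (p ^ (k + 2))) := (g : Matrix _ _ _) - 1 with hA
  have hy : ∀ i j, ∃ y, A i j = (p : ZMod (p ^ (k + 2))) ^ (k + 1) * y := fun i j => by
    refine red_dvd ?_
    have h2 : ZMod.castHom (pow_dvd_pow p (Nat.le_succ (k + 1))) (ZMod (p ^ (k + 1)))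
        ((g : Matrix (Fin n) (Fin n) _) i j) = (1 : Matrix (Fin n) (Fin n) (ZMod (p ^ (k + 1)))) i j :=
      congrFun (congrFun h1 i) j
    rw [hA, Matrix.sub_apply, map_sub, h2, Matrix.one_apply, Matrix.one_apply]
    split_ifs with h <;> first | exact sub_eq_zero.2 (map_one _).symm | rw [map_zero, sub_zero]
  choose Y hY using hy
  have hAY : A = (p : ZMod (p ^ (k + 2))) ^ (k + 1) • Matrix.of Y := by
    ext i j; simp [hY i j]
  have hzero : (p : ZMod (p ^ (k + 2))) ^ (k + 2) = 0 := by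
    rw [← Nat.cast_pow, ZMod.natCast_self]
  have hA2 : A * A = 0 := by
    rw [hAY, Matrix.smul_mul, Matrix.mul_smul, smul_smul, ← pow_add,
      pow_eq_zero_of_le (show k + 2 ≤ k + 1 + (k + 1) by omega) hzero, zero_smul]
  have hpA : (p : ZMod (p ^ (k + 2))) • A = 0 := by
    rw [hAY, smul_smul, ← pow_succ', hzero, zero_smul]
  have hpow : ∀ m : ℕ, (1 + A) ^ m = 1 + (m : ZMod (p ^ (k + 2))) • A := by
    intro m
    induction m with
    | zero => simp
    | succ m ih =>
      rw [pow_succ (1 + A) m, ih, mul_add, mul_one, add_mul, one_mul, Matrix.smul_mul, hA2, smul_zero,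
        add_zero, Nat.cast_add_one m, add_smul, one_smul, add_assoc]
  ext1
  rw [Units.val_pow_eq_pow_val, show (g : Matrix (Fin n) (Fin n) _) = 1 + A by rw [hA]; abel,
    hpow, hpA, add_zero, Units.val_one]

theorem exists_red_eq {k : ℕ} (g : GL (Fin n) (ZMod (p ^ (k + 1)))) :
    ∃ g', redHom p n k g' = g := by
  set r := ZMod.castHom (pow_dvd_pow p (Nat.le_succ (k + 1))) (ZMod (p ^ (k + 1)))
  have hr : Function.Surjective r := ZMod.ringHom_surjective r
  choose A hA using fun i j => hr ((g : Matrix (Fin n) (Fin n) _) i j)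
  set A' : Matrix (Fin n) (Fin n) (ZMod (p ^ (k + 2))) := Matrix.of A
  have hmap : A'.map r = (g : Matrix (Fin n) (Fin n) _) := Matrix.ext hA
  have hdet : IsUnit A'.det := by
    obtain ⟨y, hy⟩ := hr ((g⁻¹ : GL (Fin n) _).det : ZMod (p ^ (k + 1)))
    have h1 : r (A'.det * y - 1) = 0 := by
      rw [map_sub, map_mul, map_one, RingHom.map_det, RingHom.mapMatrix_apply, hmap, hy,
        sub_eq_zero, ← Matrix.GeneralLinearGroup.val_det_apply, ← Units.val_mul, ← map_mul,
        mul_inv_cancel, map_one, Units.val_one]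
    obtain ⟨z, hz⟩ := red_dvd h1
    have hnil : IsNilpotent (A'.det * y - 1) := by
      refine ⟨k + 2, ?_⟩
      have hzero : (p : ZMod (p ^ (k + 2))) ^ (k + 2) = 0 := by
        rw [← Nat.cast_pow, ZMod.natCast_self]
      rw [hz, mul_pow, ← pow_mul,
        pow_eq_zero_of_le (show k + 2 ≤ (k + 1) * (k + 2) by nlinarith) hzero, zero_mul]
    have h2 : IsUnit (A'.det * y) := by
      have := hnil.isUnit_one_add
      rwa [add_sub_cancel] at this
    exact isUnit_of_mul_isUnit_left h2
  refine ⟨Matrix.GeneralLinearGroup.mk'' A' hdet, ?_⟩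
  ext i j
  exact hA i j

variable {H : Type u} [Group H] [Finite H]

theorem exists_step {k : ℕ} (hH : ¬ p ∣ Nat.card H)
    (f : H →* GL (Fin n) (ZMod (p ^ (k + 1)))) (hf : Function.Injective f) :
    ∃ f' : H →* GL (Fin n) (ZMod (p ^ (k + 2))), (redHom p n k).comp f' = f := by
  classical
  haveI : NeZero (p ^ (k + 2)) := ⟨pow_ne_zero _ hp.out.ne_zero⟩
  set E := f.range.comap (redHom p n k)
  let ψ : E →* f.range := ((redHom p n k).comp E.subtype).codRestrict f.range fun x => x.2
  have hψ : Function.Surjective ψ := fun y => by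
    obtain ⟨g, hg⟩ := exists_red_eq (y : GL (Fin n) (ZMod (p ^ (k + 1))))
    exact ⟨⟨g, by rw [Subgroup.mem_comap, hg]; exact y.2⟩, Subtype.ext hg⟩
  haveI : Finite f.range := Set.finite_range f |>.to_subtype
  have hN : IsPGroup p ψ.ker := fun g => ⟨1, by
    rw [pow_one]
    refine Subtype.ext (Subtype.ext ?_)
    have hg : redHom p n k ((g : E) : GL (Fin n) (ZMod (p ^ (k + 2)))) = 1 :=
      congrArg Subtype.val (MonoidHom.mem_ker.1 g.2)
    push_cast
    exact pow_eq_one_of_mem_ker hg⟩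
  have hidx : ψ.ker.index = Nat.card H := by
    rw [Subgroup.index_ker, MonoidHom.range_eq_top.2 hψ, Subgroup.card_top]
    exact (Nat.card_congr (MonoidHom.ofInjective hf).toEquiv).symm
  have hcop : (Nat.card ψ.ker).Coprime ψ.ker.index := by
    obtain ⟨m, hm⟩ := IsPGroup.iff_card.1 hN
    rw [hm, hidx]
    exact ((hp.out.coprime_iff_not_dvd.2 hH)).pow_left _
  obtain ⟨K, hK⟩ := Subgroup.exists_right_complement'_of_coprime hcop
  let χ : K →* f.range := ψ.comp K.subtype
  have hbij : Function.Bijective χ := by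
    refine ⟨(injective_iff_map_eq_one χ).2 fun x hx => ?_, fun y => ?_⟩
    · have := hK.disjoint.le_bot (⟨MonoidHom.mem_ker.2 hx, x.2⟩ : (x : E) ∈ ψ.ker ⊓ K)
      exact Subtype.ext (Subgroup.mem_bot.1 this)
    · obtain ⟨e, rfl⟩ := hψ y
      obtain ⟨⟨a, b⟩, hab⟩ := hK.2 e
      refine ⟨b, ?_⟩
      rw [← hab, map_mul, MonoidHom.mem_ker.1 a.2, one_mul]
      rfl
  refine ⟨E.subtype.comp (K.subtype.comp
    ((MulEquiv.ofBijective χ hbij).symm.toMonoidHom.comp f.rangeRestrict)), ?_⟩
  refine MonoidHom.ext fun h => ?_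
  exact congrArg Subtype.val ((MulEquiv.ofBijective χ hbij).apply_symm_apply (f.rangeRestrict h))

/-- Faithful representations over the prime field in coprime characteristic lift to `ℂ`. -/
theorem exists_complex_lift (hH : ¬ p ∣ Nat.card H) (ρ : H →* GL (Fin n) (ZMod p))
    (hρ : Function.Injective ρ) : ∃ σ : H →* GL (Fin n) ℂ, Function.Injective σ := by
  classical
  let c0 : ZMod p →+* ZMod (p ^ (0 + 1)) :=
    (ZMod.ringEquivCongr (show p = p ^ (0 + 1) by rw [zero_add, pow_one])).toRingHom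
  have hc0 : Function.Injective c0 := RingEquiv.injective _
  have hs0 : Function.Injective ((Matrix.GeneralLinearGroup.map c0).comp ρ) :=
    fun a b h => hρ (Units.ext (Matrix.map_injective hc0 (congrArg Units.val h)))
  choose step hstep using fun (k : ℕ) (f : {f : H →* GL (Fin n) (ZMod (p ^ (k + 1))) //
      Function.Injective f}) => exists_step hH f.1 f.2
  let f : ∀ k, {f : H →* GL (Fin n) (ZMod (p ^ (k + 1))) // Function.Injective f} := fun k =>
    Nat.rec ⟨_, hs0⟩ (fun k g => ⟨step k g, fun a b h => g.2 (by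
      rw [← hstep k g, MonoidHom.comp_apply, MonoidHom.comp_apply, h])⟩) k
  have hcompat : ∀ k, (redHom p n k).comp (f (k + 1)).1 = (f k).1 := fun k => hstep k (f k)
  let F : H → Fin n → Fin n → ℕ → ℤ := fun h i j m =>
    match m with
    | 0 => 0
    | k + 1 => ((((f k).1 h : GL (Fin n) (ZMod (p ^ (k + 1)))) :
        Matrix (Fin n) (Fin n) (ZMod (p ^ (k + 1)))) i j).val
  haveI : ∀ k, NeZero (p ^ k) := fun k => ⟨pow_ne_zero _ hp.out.ne_zero⟩
  have hF : ∀ h i j m, (p : ℤ) ^ m ∣ F h i j (m + 1) - F h i j m := by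
    intro h i j m
    cases m with
    | zero => simp
    | succ k =>
      rw [← Nat.cast_pow, ← ZMod.intCast_eq_intCast_iff_dvd_sub]
      simp only [F, Int.cast_natCast, ZMod.natCast_zmod_val]
      have h1 := congrArg (fun g : H →* GL (Fin n) (ZMod (p ^ (k + 1))) =>
        ((g h : GL (Fin n) (ZMod (p ^ (k + 1)))) : Matrix (Fin n) (Fin n) (ZMod (p ^ (k + 1)))) i j)
        (hcompat k)
      refine h1.symm.trans ?_
      exact (ZMod.natCast_val _).symm
  let A : H → Matrix (Fin n) (Fin n) ℤ_[p] := fun h => Matrix.of fun i j =>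
    PadicInt.ofIntSeq _ (PadicInt.isCauSeq_padicNorm_of_pow_dvd_sub (F h i j) p (hF h i j))
  have hA : ∀ h k, (PadicInt.toZModPow (k + 1)).mapMatrix (A h) =
      (((f k).1 h : GL (Fin n) (ZMod (p ^ (k + 1)))) : Matrix (Fin n) (Fin n) (ZMod (p ^ (k + 1)))) := by
    intro h k
    ext i j
    exact (PadicInt.toZModPow_ofIntSeq_of_pow_dvd_sub (F h i j) p (hF h i j) (k + 1)).trans
      (by simp [F])
  have hext : ∀ X Y : Matrix (Fin n) (Fin n) ℤ_[p],
      (∀ k, (PadicInt.toZModPow (k + 1)).mapMatrix X =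
        (PadicInt.toZModPow (k + 1)).mapMatrix Y) → X = Y := by
    intro X Y hXY
    ext i j
    refine PadicInt.ext_of_toZModPow.1 fun m => ?_
    cases m with
    | zero => exact (ZMod.subsingleton_iff.2 (pow_zero p)).elim _ _
    | succ k => exact congrFun (congrFun (hXY k) i) j
  let AH : H →* Matrix (Fin n) (Fin n) ℤ_[p] :=
    { toFun := A
      map_one' := hext _ _ fun k => by rw [hA, map_one, map_one, Units.val_one]
      map_mul' := fun a b => hext _ _ fun k => by
        rw [map_mul (PadicInt.toZModPow (k + 1)).mapMatrix, hA, hA, hA, map_mul, Units.val_mul] }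
  obtain ⟨e, he⟩ := exists_padicInt_complex (p := p)
  refine ⟨(e.mapMatrix.toMonoidHom.comp AH).toHomUnits, fun a b hab => (f 0).2 (Units.ext ?_)⟩
  have h2 : A a = A b := Matrix.map_injective he (congrArg Units.val hab)
  rw [← hA, ← hA, h2]

end Cfsg.Agent.H35.SolvBlock
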