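import Mathlib
import Cfsg.Agent.Coprime.Generation

/-!
# A derived subgroup with cyclic centre
-/

set_option linter.style.haveILetI false

namespace Cfsg.Agent.H35.SolvBlock

open Subgroup
open scoped commutatorElement

universe u

variable {F : Type u} [Group F]

/-- Outside a normal subgroup `C`, a normal subgroup `D` of a nilpotent group has an element
central modulo `C`. -/
theorem exists_central_mod (hF : Group.IsNilpotent F) (D C : Subgroup F) [hD : D.Normal]
    (h : ¬ D ≤ C) : ∃ x ∈ D, x ∉ C ∧ ∀ y : F, ⁅x, y⁆ ∈ C := by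
  classical
  obtain ⟨c, hc⟩ := Subgroup.nilpotent_iff_lowerCentralSeries.1 hF
  obtain ⟨x₀, hx₀, hx₀C⟩ := SetLike.not_le_iff_exists.1 h
  have key : ∀ i, i ≤ c → (∃ x ∈ D, x ∉ C ∧ x ∈ (⊤ : Subgroup F).lowerCentralSeries (c - i)) →
      ∃ x ∈ D, x ∉ C ∧ ∀ y : F, ⁅x, y⁆ ∈ C := by
    intro i
    induction i with
    | zero =>
      rintro - ⟨x, -, hxC, hx⟩
      rw [Nat.sub_zero, hc, mem_bot] at hx
      exact absurd (hx ▸ C.one_mem) hxC
    | succ i ih =>
      rintro hi ⟨x, hxD, hxC, hx⟩
      by_cases hall : ∀ y : F, ⁅x, y⁆ ∈ C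
      · exact ⟨x, hxD, hxC, hall⟩
      push Not at hall
      obtain ⟨y, hy⟩ := hall
      refine ih (by omega) ⟨⁅x, y⁆, ?_, hy, ?_⟩
      · rw [commutatorElement_def, mul_assoc, mul_assoc, ← mul_assoc y]
        exact D.mul_mem hxD (hD.conj_mem _ (D.inv_mem hxD) y)
      · rw [show c - i = c - (i + 1) + 1 by omega, Subgroup.lowerCentralSeries_succ]
        exact commutator_mem_commutator hx (mem_top y)
  exact key c le_rfl ⟨x₀, hx₀, hx₀C, by simp⟩

/-- Elements of prime order in a subgroup that is cyclic generate each other. -/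
theorem mem_zpowers_of_cyclic [Finite F] (C : Subgroup F) [IsCyclic C] {r : ℕ} [hr : Fact r.Prime]
    {u v : F} (hu : u ∈ C) (hv : v ∈ C) (hur : u ^ r = 1) (hu1 : u ≠ 1) (hvr : v ^ r = 1) :
    v ∈ zpowers u := by
  classical
  letI := Fintype.ofFinite C
  have hur' : (⟨u, hu⟩ : C) ^ r = 1 := Subtype.ext hur
  have huo : orderOf (⟨u, hu⟩ : C) = r :=
    orderOf_eq_prime hur' fun h => hu1 (congrArg Subtype.val h :)
  set K := Finset.univ.filter (fun z : C => z ^ r = 1)
  set I := (Finset.range r).image (fun i => (⟨u, hu⟩ : C) ^ i)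
  have hI : I.card = r := by
    rw [Finset.card_image_of_injOn, Finset.card_range]
    intro i hi j hj hij
    exact pow_injOn_Iio_orderOf (by simpa [huo] using hi) (by simpa [huo] using hj) hij
  have hIK : I = K := Finset.eq_of_subset_of_card_le (fun z hz => by
    obtain ⟨i, -, rfl⟩ := Finset.mem_image.1 hz
    refine Finset.mem_filter.2 ⟨Finset.mem_univ _, ?_⟩
    rw [← pow_mul, mul_comm i, pow_mul, hur', one_pow])
    (by rw [hI]; exact IsCyclic.card_pow_eq_one_le hr.out.pos)
  have hvK : (⟨v, hv⟩ : C) ∈ I := by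
    rw [hIK]; exact Finset.mem_filter.2 ⟨Finset.mem_univ _, Subtype.ext hvr⟩
  obtain ⟨i, -, hi⟩ := Finset.mem_image.1 hvK
  exact mem_zpowers_iff.2 ⟨i, by simpa using congrArg Subtype.val hi⟩

/-- An element of prime order spanning a normal subgroup of a nilpotent group is central. -/
theorem central_of_prime (hF : Group.IsNilpotent F) {q : ℕ} [Fact q.Prime] {c : F}
    (hc : c ^ q = 1) (hnorm : ∀ y : F, y * c * y⁻¹ ∈ zpowers c) (y : F) : y * c = c * y := by
  rcases eq_or_ne c 1 with rfl | hc1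
  · simp
  have hord : orderOf c = q := orderOf_eq_prime hc hc1
  haveI : (zpowers c).Normal := ⟨fun x hx g => by
    obtain ⟨k, rfl⟩ := mem_zpowers_iff.1 hx
    rw [← conj_zpow]
    exact zpow_mem (hnorm g) k⟩
  obtain ⟨x, hx, hx1, hxy⟩ := exists_central_mod hF (zpowers c) ⊥
    fun h => hc1 (mem_bot.1 (h (mem_zpowers c)))
  have hcom : Commute x y := commutatorElement_eq_one_iff_commute.1 (mem_bot.1 (hxy y))
  have hxne : x ≠ 1 := fun h => hx1 (h ▸ one_mem _)
  have heq : zpowers x = zpowers c := by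
    haveI : Finite (zpowers c) := Nat.finite_of_card_ne_zero (by
      rw [Nat.card_zpowers, hord]; exact (Fact.out : q.Prime).ne_zero)
    refine eq_of_le_of_card_ge (zpowers_le.2 hx) ?_
    rw [Nat.card_zpowers, Nat.card_zpowers, hord]
    rcases (Nat.dvd_prime (Fact.out : q.Prime)).1 (hord ▸ orderOf_dvd_of_mem_zpowers hx) with h | h
    · exact absurd (orderOf_eq_one_iff.1 h) hxne
    · omega
  obtain ⟨k, hk⟩ := mem_zpowers_iff.1 (heq ▸ mem_zpowers c : c ∈ zpowers x)
  rw [← hk]
  exact ((hcom.zpow_left k).symm).eq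

open scoped IsMulCommutative in
/-- In a nilpotent group a derived subgroup with cyclic centre is commutative. -/
theorem commutator_comm_of_cyclic_center [Finite F] (hF : Group.IsNilpotent F)
    (hcyc : IsCyclic (center (commutator F))) :
    ∀ a ∈ commutator F, ∀ b ∈ commutator F, a * b = b * a := by
  classical
  set D := commutator F
  set C : Subgroup F := (center D).map D.subtype
  have hCD : C ≤ D := map_subtype_le _
  have hCc : ∀ c ∈ C, ∀ d ∈ D, c * d = d * c := by
    rintro _ ⟨c, hc, rfl⟩ d hd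
    exact congrArg Subtype.val (mem_center_iff.1 hc ⟨d, hd⟩).symm
  have hCmem : ∀ w ∈ D, (∀ d ∈ D, w * d = d * w) → w ∈ C := fun w hw h =>
    ⟨⟨w, hw⟩, mem_center_iff.2 fun d => Subtype.ext (h d d.2).symm, rfl⟩
  haveI : C.Normal := inferInstance
  suffices h : D ≤ C from fun a ha b hb => hCc a (h ha) b hb
  by_contra hDC
  obtain ⟨x₀, hx₀D, hx₀C, hx₀⟩ := exists_central_mod hF D C hDC
  have hne : orderOf (x₀ : F ⧸ C) ≠ 1 := fun h =>
    hx₀C ((QuotientGroup.eq_one_iff x₀).1 (orderOf_eq_one_iff.1 h))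
  obtain ⟨q, hq, m, hm⟩ := Nat.exists_prime_and_dvd hne
  haveI := Fact.mk hq
  have hpos := orderOf_pos (x₀ : F ⧸ C)
  set x := x₀ ^ m
  have hxD : x ∈ D := pow_mem hx₀D _
  have hxq : x ^ q ∈ C := by
    rw [← QuotientGroup.eq_one_iff, QuotientGroup.mk_pow, QuotientGroup.mk_pow, ← pow_mul, mul_comm,
      ← hm, pow_orderOf_eq_one]
  have hxC : x ∉ C := fun h => by
    rw [← QuotientGroup.eq_one_iff, QuotientGroup.mk_pow] at h
    have h2 := Nat.le_of_dvd (by rcases Nat.eq_zero_or_pos m with h0 | h0 <;> simp_all)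
      (orderOf_dvd_of_pow_eq_one h)
    rw [hm] at h2 hpos
    have := hq.two_le
    have : 0 < m := Nat.pos_of_ne_zero fun h0 => by simp [h0] at hpos
    nlinarith
  have hxy : ∀ y : F, ⁅x, y⁆ ∈ C := fun y => by
    rw [← QuotientGroup.eq_one_iff]
    show QuotientGroup.mk' C ⁅x, y⁆ = 1
    rw [map_commutatorElement, commutatorElement_eq_one_iff_commute]
    have h1 : Commute (QuotientGroup.mk' C x₀) (QuotientGroup.mk' C y) := by
      rw [← commutatorElement_eq_one_iff_commute, ← map_commutatorElement]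
      exact (QuotientGroup.eq_one_iff _).2 (hx₀ y)
    show Commute (QuotientGroup.mk' C (x₀ ^ m)) _
    rw [map_pow]
    exact h1.pow_left m
  set D₁ : Subgroup F := zpowers x ⊔ C
  have hxD₁ : x ∈ D₁ := le_sup_left (a := zpowers x) (mem_zpowers x)
  have hsub : ∀ {z}, z ∈ D₁ → ∃ i : ℤ, ∃ c ∈ C, z = x ^ i * c := fun {z} hz => by
    obtain ⟨u, hu, c, hc, rfl⟩ := mem_sup_of_normal_right.1 hz
    obtain ⟨i, rfl⟩ := mem_zpowers_iff.1 hu
    exact ⟨i, c, hc, rfl⟩
  by_cases hcy : IsCyclic D₁
  · -- automorphisms of a cyclic group commute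
    haveI := hcy
    have hD₁n : D₁.Normal := by
      refine ⟨fun z hz y => ?_⟩
      obtain ⟨i, c, hc, rfl⟩ := hsub hz
      have e : y * x * y⁻¹ ∈ D₁ := by
        have h1 := D₁.mul_mem (le_sup_right (a := zpowers x) (C.inv_mem (hxy y))) hxD₁
        rwa [commutatorElement_def, show (x * y * x⁻¹ * y⁻¹)⁻¹ * x = y * x * y⁻¹ by group] at h1
      rw [show y * (x ^ i * c) * y⁻¹ = (y * x * y⁻¹) ^ i * (y * c * y⁻¹) by rw [conj_zpow]; group]
      exact D₁.mul_mem (zpow_mem e i)
        (le_sup_right (a := zpowers x) (Subgroup.Normal.conj_mem inferInstance c hc y))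
    obtain ⟨g, hg⟩ := IsCyclic.exists_generator (α := D₁)
    let φ : F →* MulAut D₁ := MulAut.conjNormal
    have hcommφ : ∀ a b : F, φ a * φ b = φ b * φ a := by
      intro a b
      obtain ⟨i, hi⟩ := mem_zpowers_iff.1 (hg (φ a g))
      obtain ⟨j, hj⟩ := mem_zpowers_iff.1 (hg (φ b g))
      refine MulEquiv.ext fun z => ?_
      obtain ⟨k, rfl⟩ := mem_zpowers_iff.1 (hg z)
      simp only [MulAut.mul_apply, map_zpow]
      rw [← hj, ← hi, map_zpow, map_zpow, ← hi, ← hj, ← zpow_mul g j i, ← zpow_mul g i j, mul_comm]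
    have hker : D ≤ φ.ker := by
      show _root_.commutator F ≤ φ.ker
      rw [commutator_eq_closure, closure_le]
      rintro _ ⟨a, b, rfl⟩
      rw [SetLike.mem_coe, MonoidHom.mem_ker, map_commutatorElement,
        commutatorElement_eq_one_iff_commute]
      exact hcommφ a b
    refine hxC (hCmem x hxD fun d hd => ?_)
    have := congrArg Subtype.val (MulEquiv.ext_iff.1 (MonoidHom.mem_ker.1 (hker hd)) ⟨x, hxD₁⟩)
    change d * x * d⁻¹ = x at this
    exact (mul_inv_eq_iff_eq_mul.1 this).symm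
  · haveI hcom : IsMulCommutative D₁ := by
      refine ⟨⟨fun a b => Subtype.ext ?_⟩⟩
      obtain ⟨i, c, hc, ha⟩ := hsub a.2
      obtain ⟨j, d, hd, hb⟩ := hsub b.2
      show (a : F) * b = b * a
      rw [ha, hb]
      have h1 : Commute c (x ^ j) := (show Commute c x from hCc c hc x hxD).zpow_right j
      have h2 : Commute c d := hCc c hc d (hCD hd)
      have h3 : Commute (x ^ i) d := ((show Commute d x from hCc d hd x hxD).zpow_right i).symm
      exact ((Commute.zpow_zpow_self x i j).mul_right h3).mul_left (h1.mul_right h2)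
    haveI : IsCyclic C := isCyclic_of_surjective _
      ((center D).equivMapOfInjective D.subtype D.subtype_injective).surjective
    obtain ⟨r, hr, u, v, hu, hv, hu1, hvu⟩ := Coprime.exists_pair_of_not_isCyclic hcy
    haveI := Fact.mk hr
    -- one of them lies outside `C`
    obtain ⟨w, hwD₁, hwr, hwC⟩ : ∃ w ∈ D₁, w ^ r = 1 ∧ w ∉ C := by
      by_cases huC : (u : F) ∈ C
      · refine ⟨v, v.2, by rw [← SubmonoidClass.coe_pow, hv]; rfl, fun hvC => hvu ?_⟩
        have h1 := mem_zpowers_of_cyclic C huC hvC (r := r) (by rw [← SubmonoidClass.coe_pow, hu]; rfl)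
          (fun h => hu1 (Subtype.ext h)) (by rw [← SubmonoidClass.coe_pow, hv]; rfl)
        obtain ⟨i, hi⟩ := mem_zpowers_iff.1 h1
        exact mem_zpowers_iff.2 ⟨i, Subtype.ext (by simpa using hi)⟩
      · exact ⟨u, u.2, by rw [← SubmonoidClass.coe_pow, hu]; rfl, huC⟩
    obtain ⟨i, c, hc, rfl⟩ := hsub hwD₁
    have hwy : ∀ y : F, ⁅x ^ i * c, y⁆ ∈ C := fun y => by
      rw [← QuotientGroup.eq_one_iff]
      show QuotientGroup.mk' C ⁅x ^ i * c, y⁆ = 1
      rw [map_commutatorElement, map_mul, show QuotientGroup.mk' C c = 1 from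
        (QuotientGroup.eq_one_iff c).2 hc, mul_one, map_zpow, commutatorElement_eq_one_iff_commute]
      refine Commute.zpow_left ?_ i
      rw [← commutatorElement_eq_one_iff_commute, ← map_commutatorElement]
      exact (QuotientGroup.eq_one_iff _).2 (hxy y)
    set w := x ^ i * c
    have hwD : w ∈ D := D.mul_mem (zpow_mem hxD i) (hCD hc)
    set k : F → F := fun y => ⁅y, w⁆
    have hkC : ∀ y, k y ∈ C := fun y => by
      show ⁅y, w⁆ ∈ C
      rw [← commutatorElement_inv]; exact C.inv_mem (hwy y)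
    have hconj : ∀ y, y * w * y⁻¹ = k y * w := fun y => by
      simp only [k, commutatorElement_def]; group
    have hkr : ∀ y, k y ^ r = 1 := fun y => by
      have h1 : (y * w * y⁻¹) ^ r = 1 := by rw [conj_pow, hwr]; group
      rw [hconj y, (show Commute (k y) w from hCc _ (hkC y) w hwD).mul_pow, hwr, mul_one] at h1
      exact h1
    have hcent : ∀ y z : F, y * k z = k z * y := fun y z => by
      refine central_of_prime hF (hkr z) (fun y' => ?_) y
      rcases eq_or_ne (k z) 1 with h1 | h1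
      · simp [h1]
      exact mem_zpowers_of_cyclic C (hkC z) (Subgroup.Normal.conj_mem inferInstance _ (hkC z) y')
        (hkr z) h1 (by rw [conj_pow, hkr]; group)
    let φ : F →* C :=
      { toFun := fun y => ⟨k y, hkC y⟩
        map_one' := Subtype.ext (by simp [k])
        map_mul' := fun a b => Subtype.ext (by
          show k (a * b) = k a * k b
          apply mul_right_cancel (b := w)
          rw [← hconj, show a * b * w * (a * b)⁻¹ = a * (b * w * b⁻¹) * a⁻¹ by group, hconj b,
            show a * (k b * w) * a⁻¹ = a * k b * (w * a⁻¹) by group, hcent a b,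
            show k b * a * (w * a⁻¹) = k b * (a * w * a⁻¹) by group, hconj a, ← mul_assoc, hcent]) }
    have hker : D ≤ φ.ker := by
      show _root_.commutator F ≤ φ.ker
      rw [commutator_eq_closure, closure_le]
      rintro _ ⟨a, b, rfl⟩
      rw [SetLike.mem_coe, MonoidHom.mem_ker, map_commutatorElement,
        commutatorElement_eq_one_iff_commute]
      exact Commute.all _ _
    refine hwC (hCmem w hwD fun d hd => ?_)
    have h1 : k d = 1 := congrArg Subtype.val (MonoidHom.mem_ker.1 (hker hd))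
    have h2 := hconj d
    rw [h1, one_mul] at h2
    exact (mul_inv_eq_iff_eq_mul.1 h2).symm

end Cfsg.Agent.H35.SolvBlock
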