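import Cfsg.Agent.H30.ClassFit.Perm

/-!
# Class numbers of solvable permutation groups
-/

set_option linter.style.haveILetI false

namespace Cfsg.Agent.H35.SolvBlock

open MulAction Cfsg.Agent.H30.ClassFit

universe u v

variable {T : Type u} [Group T] {Ω : Type v} [MulAction T Ω]

/-- A solvable group acting faithfully on `Ω` has at most `3 ^ (|Ω| - #orbits)` classes. -/
theorem kcard_perm_le_aux : ∀ (m : ℕ) (T : Type u) [Group T] [Finite T] [Group.IsSolvable T]
    (Ω : Type v) [Finite Ω] [MulAction T Ω] [FaithfulSMul T Ω], Nat.card T + Nat.card Ω ≤ m →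
    Nat.card (ConjClasses T) ≤ 3 ^ (Nat.card Ω - Nat.card (Quotient (orbitRel T Ω))) := by
  intro m
  induction m with
  | zero =>
    intro T _ _ _ Ω _ _ _ h
    exact absurd h (by have := Nat.card_pos (α := T); omega)
  | succ m ih =>
    intro T _ _ _ Ω _ _ _ hm
    classical
    haveI := Fintype.ofFinite T
    rcases subsingleton_or_nontrivial T with hT | hT
    · refine le_trans kcard_le_card ?_
      rw [Nat.card_of_subsingleton (1 : T)]
      exact Nat.one_le_pow _ _ (by norm_num)
    obtain ⟨ω₀⟩ : Nonempty Ω := by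
      by_contra h
      rw [not_nonempty_iff] at h
      obtain ⟨a, b, hab⟩ := exists_pair_ne T
      exact hab (eq_of_smul_eq_smul fun x : Ω => (h.false x).elim)
    by_cases htr : ∀ ω : Ω, ω ∈ orbit T ω₀
    · -- transitive
      have hstab : stabilizer T ω₀ ≠ ⊤ := fun h => by
        obtain ⟨a, b, hab⟩ := exists_pair_ne T
        refine hab (eq_of_smul_eq_smul fun x : Ω => ?_)
        obtain ⟨g, rfl⟩ := htr x
        have e : ∀ c : T, c • g • ω₀ = ω₀ := fun c => by
          rw [← mul_smul]
          exact (h ▸ Subgroup.mem_top (c * g) : c * g ∈ stabilizer T ω₀)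
        exact (e a).trans (e b).symm
      obtain ⟨M, hM, hle⟩ := (eq_top_or_exists_le_coatom (stabilizer T ω₀)).resolve_left hstab
      set B := M.normalCore
      have hBM : B ≤ M := M.normalCore_le
      have hBlt : Nat.card B < Nat.card T := by
        refine lt_of_le_of_ne (Subgroup.card_le_card_group _) fun h => hM.1 ?_
        exact top_le_iff.1 ((Subgroup.eq_top_of_card_eq _ h) ▸ hBM)
      -- the orbits of `B` lie inside blocks
      choose t ht using htr
      let blk : Ω → T ⧸ M := fun ω => (t ω : T ⧸ M)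
      have hblk : ∀ (g : T) (ω : Ω), g • ω₀ = ω → blk ω = (g : T ⧸ M) := fun g ω hg => by
        refine QuotientGroup.eq.2 (hle ?_)
        show ((t ω)⁻¹ * g) • ω₀ = ω₀
        rw [mul_smul, hg, inv_smul_eq_iff]
        exact (ht ω).symm
      have hconst : ∀ (b : B) (ω : Ω), blk (b • ω) = blk ω := fun b ω => by
        rw [hblk ((b : T) * t ω) (b • ω) (by rw [mul_smul]; exact congrArg _ (ht ω))]
        refine QuotientGroup.eq.2 (hBM ?_)
        have h1 := (Subgroup.normalCore_normal M).conj_mem _ (B.inv_mem b.2) (t ω)⁻¹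
        simpa [mul_assoc] using h1
      have horb : M.index ≤ Nat.card (Quotient (orbitRel B Ω)) := by
        rw [Subgroup.index_eq_card]
        refine Nat.card_le_card_of_surjective (Quotient.lift blk fun a b h => ?_) fun q => ?_
        · obtain ⟨c, rfl⟩ := h
          exact hconst c b
        · obtain ⟨g, rfl⟩ := QuotientGroup.mk_surjective q
          exact ⟨Quotient.mk'' (g • ω₀), hblk g _ rfl⟩
      have hB := ih B Ω (by omega)
      have hq : Nat.card (ConjClasses (T ⧸ B)) ≤ 3 ^ (M.index - 1) :=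
        kcard_le_card.trans (card_quotient_core_le hM)
      refine (H77.kcard_le_mul_quotient B).trans ((Nat.mul_le_mul hB hq).trans ?_)
      rw [← pow_add]
      refine Nat.pow_le_pow_right (by norm_num) ?_
      have h1 : Nat.card (Quotient (orbitRel T Ω)) ≤ 1 := by
        refine Finite.card_le_one_iff_subsingleton.2 ⟨fun a b => ?_⟩
        induction a using Quotient.inductionOn'
        induction b using Quotient.inductionOn'
        rename_i a b
        refine Quotient.sound' ⟨t a * (t b)⁻¹, ?_⟩
        show (t a * (t b)⁻¹) • b = a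
        rw [mul_smul, inv_smul_eq_iff.2 (ht b).symm]
        exact ht a
      have h2 : M.index ≠ 0 := Subgroup.index_ne_zero_of_finite
      have h3 : Nat.card (Quotient (orbitRel B Ω)) ≤ Nat.card Ω :=
        Nat.card_le_card_of_surjective _ Quotient.mk''_surjective
      omega
    · -- intransitive
      push Not at htr
      obtain ⟨ω₁, hω₁⟩ := htr
      let Ω₁ := ↥(orbit T ω₀)
      let f : T →* Equiv.Perm Ω₁ := MulAction.toPermHom T Ω₁
      let Ω₂ := {ω : Ω // ω ∉ orbit T ω₀}
      letI : MulAction f.ker Ω₂ :=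
        { smul := fun n ω => ⟨(n : T) • ω.1, fun h => ω.2 (by
            obtain ⟨g, hg⟩ := h
            exact ⟨(n : T)⁻¹ * g, by
              show ((n : T)⁻¹ * g) • ω₀ = ω.1
              rw [mul_smul]; exact (congrArg _ hg).trans (inv_smul_smul _ _)⟩)⟩
          one_smul := fun ω => Subtype.ext (one_smul T ω.1)
          mul_smul := fun a b ω => Subtype.ext (mul_smul (a : T) b ω.1) }
      haveI : FaithfulSMul f.ker Ω₂ := ⟨fun {a b} hab => Subtype.ext (eq_of_smul_eq_smul fun ω : Ω => by
        by_cases hω : ω ∈ orbit T ω₀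
        · have ha := congrArg Subtype.val (Equiv.ext_iff.1 (MonoidHom.mem_ker.1 a.2) ⟨ω, hω⟩)
          have hb := congrArg Subtype.val (Equiv.ext_iff.1 (MonoidHom.mem_ker.1 b.2) ⟨ω, hω⟩)
          exact ha.trans hb.symm
        · exact congrArg Subtype.val (hab ⟨ω, hω⟩))⟩
      have hsum : Nat.card Ω₁ + Nat.card Ω₂ = Nat.card Ω := by
        rw [← Nat.card_sum]
        exact Nat.card_congr (Equiv.sumCompl (fun ω => ω ∈ orbit T ω₀))
      have h1pos : 0 < Nat.card Ω₁ :=
        Nat.card_pos_iff.2 ⟨⟨⟨ω₀, mem_orbit_self ω₀⟩⟩, inferInstance⟩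
      have h2pos : 0 < Nat.card Ω₂ := Nat.card_pos_iff.2 ⟨⟨⟨ω₁, hω₁⟩⟩, inferInstance⟩
      have hker : Nat.card f.ker ≤ Nat.card T := Subgroup.card_le_card_group _
      have hN := ih f.ker Ω₂ (by omega)
      letI : MulAction (T ⧸ f.ker) Ω₁ := MulAction.compHom _ (QuotientGroup.kerLift f)
      haveI : FaithfulSMul (T ⧸ f.ker) Ω₁ :=
        ⟨fun {a b} h => QuotientGroup.kerLift_injective f (Equiv.ext h)⟩
      have hran : Nat.card (T ⧸ f.ker) ≤ Nat.card T :=
        Nat.card_le_card_of_surjective _ QuotientGroup.mk_surjective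
      have hR := ih (T ⧸ f.ker) Ω₁ (by omega)
      refine (H77.kcard_le_mul_quotient f.ker).trans ((Nat.mul_le_mul hN hR).trans ?_)
      rw [← pow_add]
      refine Nat.pow_le_pow_right (by norm_num) ?_
      -- orbits of `T`: one inside `Ω₁`, the others inside `Ω₂`
      have hcount : Nat.card (Quotient (orbitRel T Ω)) ≤
          1 + Nat.card (Quotient (orbitRel f.ker Ω₂)) := by
        refine le_trans (Nat.card_le_card_of_surjective
          (fun o : Unit ⊕ Quotient (orbitRel f.ker Ω₂) => o.elim (fun _ => Quotient.mk'' ω₀)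
            (Quotient.map' (fun ω : Ω₂ => ω.1) fun a b h => by
              obtain ⟨n, hn⟩ := h
              exact ⟨(n : T), congrArg Subtype.val hn⟩)) fun q => ?_) (by simp [Nat.card_sum])
        induction q using Quotient.inductionOn' with
        | h a =>
          by_cases ha : a ∈ orbit T ω₀
          · exact ⟨Sum.inl (), (Quotient.sound' ha).symm⟩
          · exact ⟨Sum.inr (Quotient.mk'' ⟨a, ha⟩), rfl⟩
      have hR1 : 0 < Nat.card (Quotient (orbitRel (T ⧸ f.ker) Ω₁)) :=
        Nat.card_pos_iff.2 ⟨⟨Quotient.mk'' ⟨ω₀, mem_orbit_self ω₀⟩⟩, inferInstance⟩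
      have hN2 : Nat.card (Quotient (orbitRel f.ker Ω₂)) ≤ Nat.card Ω₂ :=
        Nat.card_le_card_of_surjective _ Quotient.mk''_surjective
      omega

/-- A solvable group acting faithfully on a nonempty `Ω` has at most `3 ^ (|Ω| - 1)` classes. -/
theorem kcard_perm_le [Finite T] [Group.IsSolvable T] [Finite Ω] [Nonempty Ω] [FaithfulSMul T Ω] :
    Nat.card (ConjClasses T) ≤ 3 ^ (Nat.card Ω - 1) := by
  refine (kcard_perm_le_aux _ T Ω le_rfl).trans (Nat.pow_le_pow_right (by norm_num) ?_)
  have : 0 < Nat.card (Quotient (orbitRel T Ω)) :=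
    Nat.card_pos_iff.2 ⟨(inferInstance : Nonempty Ω).map Quotient.mk'', inferInstance⟩
  omega

end Cfsg.Agent.H35.SolvBlock
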