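import Cfsg.Agent.H86.Knorr
import Cfsg.Agent.H30.ClassFit.Complex
import Cfsg.Agent.H35.SolvBlock.Lift
import Cfsg.Agent.H35.SolvBlock.PermBound
import Cfsg.Agent.H35.SolvBlock.Nilpotent
import Cfsg.Agent.H35.SolvBlock.Decomp

/-!
# `k(HV) ≤ 3 ^ (n - 1) p ^ n` for a solvable `p'`-group `H` acting faithfully on `V` of order `p ^ n`
-/

set_option linter.style.haveILetI false
set_option linter.unusedSectionVars false

namespace Cfsg.Agent.H35.SolvBlock

open Subgroup Cfsg.Agent.H30.ClassFit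
open scoped commutatorElement

universe u

/-- A self-centralising elementary abelian normal Sylow `p`-subgroup. -/
structure IsModule (p : ℕ) {Y : Type u} [Group Y] (V : Subgroup Y) : Prop where
  normal : V.Normal
  comm : ∀ a ∈ V, ∀ b ∈ V, a * b = b * a
  pow : ∀ a ∈ V, a ^ p = 1
  index : ¬ p ∣ V.index
  cent : centralizer (V : Set Y) = V

/-- The statement in dimensions below `n₀`. -/
def BoundUpTo (p n₀ : ℕ) : Prop :=
  ∀ (n : ℕ), n < n₀ → ∀ (Y : Type u) [Group Y] [Finite Y] [Group.IsSolvable Y] (V : Subgroup Y),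
    IsModule p V → Nat.card V = p ^ n → Nat.card (ConjClasses Y) ≤ 3 ^ (n - 1) * p ^ n

variable {p : ℕ} [hp : Fact p.Prime] {Y : Type u} [Group Y] [Finite Y] {V : Subgroup Y}

theorem IsModule.coprime (hV : IsModule p V) : (Nat.card V).Coprime V.index := by
  obtain ⟨k, hk⟩ := IsPGroup.iff_card.1 (show IsPGroup p V from fun a =>
    ⟨1, Subtype.ext (by rw [pow_one]; exact hV.pow a a.2)⟩)
  rw [hk]
  exact (hp.out.coprime_iff_not_dvd.2 hV.index).pow_left k

theorem IsModule.card_eq_pow (hV : IsModule p V) {W : Subgroup Y} (hW : W ≤ V) :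
    ∃ k, Nat.card W = p ^ k :=
  IsPGroup.iff_card.1 (show IsPGroup p W from fun a =>
    ⟨1, Subtype.ext (by rw [pow_one]; exact hV.pow a (hW a.2))⟩)

theorem le_one_of_bot (hV : IsModule p V) (h : V = ⊥) : Nat.card (ConjClasses Y) ≤ 1 := by
  refine kcard_le_card.trans (le_of_eq (Nat.card_eq_one_iff_unique.2 ⟨⟨fun a b => ?_⟩, ⟨1⟩⟩))
  have e : ∀ c : Y, c = 1 := fun c => by
    have : c ∈ centralizer (V : Set Y) := by
      rw [h]; exact mem_centralizer_iff.2 fun d hd => by simp [mem_bot.1 hd]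
    rw [hV.cent, h, mem_bot] at this
    exact this
  rw [e a, e b]

/-- `V` split into `s` invariant pieces, each of smaller order than `p ^ n₀`. -/
theorem kcard_pieces {n₀ : ℕ} (hb : BoundUpTo.{u} p n₀) : ∀ (s : ℕ) (Y : Type u) [Group Y] [Finite Y]
    [Group.IsSolvable Y] (V : Subgroup Y) (n : ℕ), IsModule p V → Nat.card V = p ^ n →
    ∀ (F : Finset (Subgroup Y)), F.card = s →
      (∀ W ∈ F, W.Normal ∧ W ≠ ⊥ ∧ W ≤ V ∧ Nat.card W < p ^ n₀) →
      (∀ W ∈ F, W ⊓ (⨆ W' ∈ F, ⨆ (_ : W' ≠ W), W') = ⊥) → V ≤ (⨆ W ∈ F, W) →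
      s ≤ n ∧ Nat.card (ConjClasses Y) ≤ 3 ^ (n - s) * p ^ n := by
  intro s
  induction s with
  | zero =>
    intro Y _ _ _ V n hV hn F hF _ _ hsup
    have hbot : V = ⊥ := by
      rw [Finset.card_eq_zero.1 hF] at hsup
      simpa using hsup
    exact ⟨n.zero_le, (le_one_of_bot hV hbot).trans
      (Nat.one_le_iff_ne_zero.2 (by have := hp.out.ne_zero; positivity))⟩
  | succ s ih =>
    intro Y _ _ _ V n hV hn F hF hprop hind hsup
    classical
    haveI := Fintype.ofFinite Y
    haveI := hV.normal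
    obtain ⟨W, hW⟩ := Finset.card_pos.1 (by omega : 0 < F.card)
    obtain ⟨hWn, hW1, hWV, hWlt⟩ := hprop W hW
    haveI := hWn
    set R : Subgroup Y := ⨆ W' ∈ F.erase W, W'
    have hRV : R ≤ V := iSup₂_le fun W' h => (hprop W' (Finset.mem_of_mem_erase h)).2.2.1
    haveI hRn : R.Normal := Subgroup.normalizer_eq_top_iff.1 (eq_top_iff.2 fun y _ =>
      Coprime.mem_normalizer_of_map_conj (by
        simp only [R, Subgroup.map_iSup]
        refine iSup_congr fun W' => iSup_congr fun h => ?_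
        haveI := (hprop W' (Finset.mem_of_mem_erase h)).1
        exact Coprime.map_conj_eq (by rw [normalizer_eq_top_iff.2 inferInstance]; exact mem_top y)))
    have hWR : W ⊓ R = ⊥ := le_bot_iff.1 (le_trans (inf_le_inf_left W (iSup₂_le fun W' h =>
      le_iSup₂_of_le W' (Finset.mem_of_mem_erase h)
        (le_iSup (fun _ : W' ≠ W => W') (Finset.ne_of_mem_erase h)))) (hind W hW).le)
    have hVWR : V ≤ W ⊔ R := by
      refine hsup.trans (iSup₂_le fun W' h => ?_)
      rcases eq_or_ne W' W with rfl | hne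
      · exact le_sup_left
      · exact le_sup_of_le_right (le_iSup₂_of_le W' (Finset.mem_erase.2 ⟨hne, h⟩) le_rfl)
    obtain ⟨H, hH⟩ := exists_right_complement'_of_coprime hV.coprime
    have hdec : ∀ y : Y, ∃ v ∈ V, ∃ h ∈ H, y = v * h := fun y => by
      obtain ⟨⟨v, h⟩, e⟩ := hH.2 y
      exact ⟨v, v.2, h, h.2, e.symm⟩
    set H₁ := H ⊓ centralizer (W : Set Y)
    set U := R ⊔ H₁
    haveI hUn : U.Normal := by
      refine ⟨fun u hu y => ?_⟩
      obtain ⟨r, hr, h, hh, rfl⟩ := mem_sup_of_normal_left.1 hu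
      rw [show y * (r * h) * y⁻¹ = (y * r * y⁻¹) * (y * h * y⁻¹) by group]
      refine U.mul_mem (le_sup_left (a := R) (hRn.conj_mem r hr y)) ?_
      obtain ⟨v, hv, k, hk, rfl⟩ := hdec y
      have hk1 : k * h * k⁻¹ ∈ H₁ := ⟨H.mul_mem (H.mul_mem hk hh.1) (H.inv_mem hk),
        mem_centralizer_iff.2 fun w hw => by
          have h2 := mem_centralizer_iff.1 hh.2 _ (hWn.conj_mem w hw k⁻¹)
          calc w * (k * h * k⁻¹) = k * ((k⁻¹ * w * k⁻¹⁻¹) * h) * k⁻¹ := by group
            _ = k * (h * (k⁻¹ * w * k⁻¹⁻¹)) * k⁻¹ := by rw [h2]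
            _ = k * h * k⁻¹ * w := by group⟩
      set g := k * h * k⁻¹
      obtain ⟨w, hw, r', hr', rfl⟩ := mem_sup_of_normal_left.1 (hVWR hv)
      have hgw : g * w = w * g := (mem_centralizer_iff.1 hk1.2 w hw).symm
      have hgw' : g * r' * g⁻¹ ∈ R := hRn.conj_mem r' hr' g
      have e : w * r' * k * h * (w * r' * k)⁻¹ = (w * (r' * (g * r'⁻¹ * g⁻¹)) * w⁻¹) * g := by
        calc w * r' * k * h * (w * r' * k)⁻¹ = w * r' * g * r'⁻¹ * w⁻¹ := by simp only [g]; group
          _ = w * (r' * (g * r'⁻¹ * g⁻¹)) * g * w⁻¹ := by group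
          _ = w * (r' * (g * r'⁻¹ * g⁻¹)) * (g * w⁻¹) := by group
          _ = w * (r' * (g * r'⁻¹ * g⁻¹)) * (w⁻¹ * g) := by
              rw [show g * w⁻¹ = w⁻¹ * g from ((show Commute g w from hgw).inv_right).eq]
          _ = _ := by group
      rw [e]
      exact U.mul_mem (le_sup_left (a := R) (hRn.conj_mem _
        (R.mul_mem hr' (hRn.conj_mem _ (R.inv_mem hr') g)) w)) (le_sup_right (a := R) hk1)
    have hUV : U ⊓ V = R := by
      refine le_antisymm ?_ (le_inf le_sup_left hRV)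
      rintro u ⟨hu, huV⟩
      obtain ⟨r, hr, h, hh, rfl⟩ := mem_sup_of_normal_left.1 hu
      have : h ∈ V ⊓ H := ⟨(mul_mem_cancel_left (hRV hr)).1 huV, hh.1⟩
      rw [hH.disjoint.eq_bot, mem_bot] at this
      rw [this, mul_one]; exact hr
    have hWU : W ⊓ U = ⊥ := by
      rw [eq_bot_iff]
      rintro w ⟨hw, hwU⟩
      exact hWR ▸ (⟨hw, hUV ▸ (⟨hwU, hWV hw⟩ : w ∈ U ⊓ V)⟩ : w ∈ W ⊓ R)
    -- the quotient
    let π := QuotientGroup.mk' U
    have hVmap : V.map π = W.map π := by
      refine le_antisymm ?_ (Subgroup.map_mono hWV)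
      rintro _ ⟨v, hv, rfl⟩
      obtain ⟨w, hw, r, hr, rfl⟩ := mem_sup_of_normal_left.1 (hVWR hv)
      refine ⟨w, hw, ?_⟩
      rw [map_mul, show π r = 1 from (QuotientGroup.eq_one_iff r).2 (le_sup_left (a := R) hr),
        mul_one]
    have hQ : IsModule p (V.map π) := by
      refine ⟨hV.normal.map π (QuotientGroup.mk'_surjective U), ?_, ?_, ?_, ?_⟩
      · rintro _ ⟨a, ha, rfl⟩ _ ⟨b, hb, rfl⟩
        rw [← map_mul, ← map_mul, hV.comm a ha b hb]
      · rintro _ ⟨a, ha, rfl⟩
        rw [← map_pow, hV.pow a ha, map_one]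
      · exact fun h => hV.index (h.trans (V.index_map_dvd (QuotientGroup.mk'_surjective U)))
      · refine le_antisymm (fun q hq => ?_) (fun q hq => mem_centralizer_iff.2 fun d hd => ?_)
        · obtain ⟨y, rfl⟩ := QuotientGroup.mk'_surjective U q
          have hyW : y ∈ centralizer (W : Set Y) := mem_centralizer_iff.2 fun w hw => by
            have h1 := mem_centralizer_iff.1 hq (π w) (Subgroup.mem_map_of_mem π (hWV hw))
            rw [← map_mul, ← map_mul] at h1
            have h2 : (y * w)⁻¹ * (w * y) ∈ U := QuotientGroup.eq.1 h1.symm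
            have h3 : (y * w)⁻¹ * (w * y) ∈ W := by
              rw [show (y * w)⁻¹ * (w * y) = w⁻¹ * (y⁻¹ * w * y⁻¹⁻¹) by group]
              exact W.mul_mem (W.inv_mem hw) (hWn.conj_mem w hw y⁻¹)
            have h4 := hWU.le ⟨h3, h2⟩
            rw [mem_bot, inv_mul_eq_one] at h4
            exact h4.symm
          obtain ⟨v, hv, h, hh, rfl⟩ := hdec y
          have hhW : h ∈ centralizer (W : Set Y) := by
            refine mem_centralizer_iff.2 fun w hw => ?_
            have h1 := mem_centralizer_iff.1 hyW w hw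
            rw [← mul_assoc, hV.comm w (hWV hw) v hv, mul_assoc, mul_assoc, mul_left_cancel_iff] at h1
            exact h1
          refine ⟨v, hv, ?_⟩
          rw [map_mul, show π h = 1 from
            (QuotientGroup.eq_one_iff h).2 (le_sup_right (a := R) ⟨hh, hhW⟩), mul_one]
        · obtain ⟨a, ha, rfl⟩ := hq
          obtain ⟨b, hb, rfl⟩ := hd
          rw [← map_mul, ← map_mul, hV.comm a ha b hb]
    obtain ⟨m, hm⟩ := hV.card_eq_pow hWV
    have hQcard : Nat.card (V.map π : Subgroup (Y ⧸ U)) = p ^ m := by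
      rw [hVmap, ← hm]
      let f : W →* (W.map π : Subgroup (Y ⧸ U)) :=
        (π.comp W.subtype).codRestrict _ fun w => Subgroup.mem_map_of_mem π w.2
      refine (Nat.card_congr (Equiv.ofBijective f ⟨(injective_iff_map_eq_one f).2 fun w hw => ?_,
        fun q => ?_⟩)).symm
      · have h1 : (w : Y) ∈ U := (QuotientGroup.eq_one_iff _).1 (congrArg Subtype.val hw)
        exact Subtype.ext (mem_bot.1 (hWU.le ⟨w.2, h1⟩))
      · obtain ⟨w, hw, e⟩ := q.2
        exact ⟨⟨w, hw⟩, Subtype.ext e⟩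
    have hm_lt : m < n₀ := (Nat.pow_lt_pow_iff_right hp.out.one_lt).1 (hm ▸ hWlt)
    have hm1 : 1 ≤ m := Nat.one_le_iff_ne_zero.2 fun h0 => hW1 (by
      rw [h0, pow_zero] at hm; exact card_eq_one.1 hm)
    have hkQ := hb m hm_lt (Y ⧸ U) (V.map π) hQ hQcard
    -- the kernel
    have hRU : R ≤ U := le_sup_left
    have hU : IsModule p (R.subgroupOf U) := by
      refine ⟨inferInstance, fun a ha b hb => Subtype.ext (hV.comm _ (hRV ha) _ (hRV hb)),
        fun a ha => Subtype.ext ((SubmonoidClass.coe_pow a p).trans (hV.pow _ (hRV ha))), ?_, ?_⟩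
      · intro hdvd
        refine hV.index (hdvd.trans ?_)
        show R.relIndex U ∣ _
        rw [← hUV, inf_relIndex_left]
        exact relIndex_dvd_index_of_normal V U
      · refine le_antisymm (fun u hu => ?_) (fun u hu => mem_centralizer_iff.2 fun d hd =>
          Subtype.ext (hV.comm _ (hRV hd) _ (hRV hu)))
        obtain ⟨r, hr, h, hh, e⟩ := mem_sup_of_normal_left.1 u.2
        have hhV : h ∈ centralizer (V : Set Y) := by
          refine mem_centralizer_iff.2 fun v hv => ?_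
          obtain ⟨w, hw, r', hr', rfl⟩ := mem_sup_of_normal_left.1 (hVWR hv)
          have h1 : r' * (u : Y) = u * r' :=
            congrArg Subtype.val (mem_centralizer_iff.1 hu (⟨r', hRU hr'⟩ : U) hr')
          rw [← e, ← mul_assoc, hV.comm r' (hRV hr') r (hRV hr), mul_assoc, mul_assoc,
            mul_left_cancel_iff] at h1
          rw [mul_assoc, h1, ← mul_assoc, mem_centralizer_iff.1 hh.2 w hw, mul_assoc]
        rw [hV.cent] at hhV
        have h1 : h ∈ V ⊓ H := ⟨hhV, hh.1⟩
        rw [hH.disjoint.eq_bot, mem_bot] at h1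
        show (u : Y) ∈ R
        rw [← e, h1, mul_one]; exact hr
    obtain ⟨mR, hmR⟩ := hV.card_eq_pow hRV
    have hRcard : Nat.card (R.subgroupOf U) = p ^ mR :=
      (Nat.card_congr (subgroupOfEquivOfLe hRU).toEquiv).trans hmR
    have hsub : ∀ W' ∈ F.erase W, W' ≤ U := fun W' h =>
      le_trans (le_iSup₂_of_le W' h le_rfl : W' ≤ R) hRU
    have hmap : ∀ W' ∈ F.erase W, (W'.subgroupOf U).map U.subtype = W' := fun W' h => by
      rw [subgroupOf_map_subtype, inf_eq_left.2 (hsub W' h)]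
    obtain ⟨hs, hkU⟩ := ih U (R.subgroupOf U) mR hU hRcard ((F.erase W).image (·.subgroupOf U))
      (by
        rw [Finset.card_image_of_injOn, Finset.card_erase_of_mem hW, hF]; · omega
        intro a ha b hb e
        rw [← hmap a ha, ← hmap b hb]
        exact congrArg _ e)
      (by
        intro W'' h''
        obtain ⟨W', h', rfl⟩ := Finset.mem_image.1 h''
        obtain ⟨hn', h1', -, hlt'⟩ := hprop W' (Finset.mem_of_mem_erase h')
        refine ⟨inferInstance, fun e => h1' ?_, fun x hx => ?_, ?_⟩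
        · rw [← hmap W' h', e, Subgroup.map_bot]
        · exact (le_iSup₂_of_le W' h' le_rfl : W' ≤ R) hx
        · rwa [Nat.card_congr (subgroupOfEquivOfLe (hsub W' h')).toEquiv])
      (by
        intro W'' h''
        obtain ⟨W', h', rfl⟩ := Finset.mem_image.1 h''
        rw [← Subgroup.map_eq_bot_iff_of_injective _ U.subtype_injective,
          map_inf _ _ _ U.subtype_injective, hmap W' h', eq_bot_iff]
        refine le_trans (inf_le_inf_left W' ?_) (hind W' (Finset.mem_of_mem_erase h')).le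
        simp only [Subgroup.map_iSup]
        refine iSup₂_le fun V'' hV'' => iSup_le fun hne => ?_
        obtain ⟨W₂, h₂, rfl⟩ := Finset.mem_image.1 hV''
        rw [hmap W₂ h₂]
        exact le_iSup₂_of_le W₂ (Finset.mem_of_mem_erase h₂)
          (le_iSup (fun _ : W₂ ≠ W' => W₂) fun e => hne (e ▸ rfl)))
      (by
        rw [← Subgroup.map_le_map_iff_of_injective U.subtype_injective, subgroupOf_map_subtype,
          inf_eq_left.2 hRU]
        simp only [Subgroup.map_iSup]
        refine iSup₂_le fun W' h => ?_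
        refine le_trans (hmap W' h).ge ?_
        exact le_iSup₂_of_le (f := fun (X : Subgroup U) (_ : X ∈ _) => X.map U.subtype)
          (W'.subgroupOf U) (Finset.mem_image_of_mem _ h) le_rfl)
    have hn' : n = m + mR := by
      have hVeq : V = W ⊔ R := le_antisymm hVWR (sup_le hWV hRV)
      have h1 : Nat.card (W ⊔ R : Subgroup Y) = Nat.card W * Nat.card R :=
        Coprime.card_sup (by rw [normalizer_eq_top_iff.2 hWn]; exact le_top) hWR
      rw [← hVeq, hn, hm, hmR, ← pow_add] at h1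
      exact Nat.pow_right_injective hp.out.two_le h1
    refine ⟨by omega, (H77.kcard_le_mul_quotient U).trans ((Nat.mul_le_mul hkU hkQ).trans ?_)⟩
    calc 3 ^ (mR - s) * p ^ mR * (3 ^ (m - 1) * p ^ m)
        = 3 ^ (mR - s + (m - 1)) * p ^ (m + mR) := by rw [pow_add, pow_add]; ring
      _ ≤ _ := by
        rw [← hn']
        exact Nat.mul_le_mul_right _ (Nat.pow_le_pow_right (by norm_num) (by omega))

/-- Every abelian subgroup of a complement that the complement normalises acts semiregularly. -/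
def IsQuasiPrimitive (V H : Subgroup Y) : Prop :=
  ∀ A : Subgroup Y, A ≤ H → H ≤ normalizer (A : Set Y) → (∀ a ∈ A, ∀ b ∈ A, a * b = b * a) →
    ∀ a ∈ A, a ≠ 1 → V ⊓ centralizer ({a} : Set Y) = ⊥

theorem kcard_blocks [Group.IsSolvable Y] (hV : IsModule p V) {n : ℕ} (hn : Nat.card V = p ^ n)
    (hb : BoundUpTo.{u} p n) {H : Subgroup Y} (hH : IsComplement' V H)
    (hqp : ¬ IsQuasiPrimitive V H) : Nat.card (ConjClasses Y) ≤ 3 ^ (n - 1) * p ^ n := by
  classical
  haveI := hV.normal
  haveI := Fintype.ofFinite Y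
  unfold IsQuasiPrimitive at hqp
  push Not at hqp
  obtain ⟨A, hAH, hHA, hAc, a, haA, ha1, hfix⟩ := hqp
  have hab := hV.comm
  have hdec : ∀ y : Y, ∃ v ∈ V, ∃ h ∈ H, y = v * h := fun y => by
    obtain ⟨⟨v, h⟩, e⟩ := hH.2 y
    exact ⟨v, v.2, h, h.2, e.symm⟩
  set S : Finset Y := Finset.univ.filter (fun b => ∃ h ∈ H, h * a * h⁻¹ = b)
  have hSA : ∀ b ∈ S, b ∈ A := fun b hbS => by
    obtain ⟨h, hh, rfl⟩ := (Finset.mem_filter.1 hbS).2
    exact Coprime.conj_mem (hHA hh) haA
  have haS : a ∈ S := Finset.mem_filter.2 ⟨Finset.mem_univ a, 1, H.one_mem, by simp⟩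
  have hcop : ∀ b ∈ S, (orderOf b).Coprime p := fun b hbS => by
    refine ((hp.out.coprime_iff_not_dvd.2 fun hd => hV.index (hd.trans ?_))).symm
    rw [hH.symm.index_eq_card]
    exact (Subgroup.orderOf_coe (⟨b, hAH (hSA b hbS)⟩ : H)) ▸ orderOf_dvd_natCard _
  have hSconj : ∀ h ∈ H, S.image (fun b => h * b * h⁻¹) = S := by
    intro h hh
    refine Finset.eq_of_subset_of_card_le (fun b hb => ?_) ?_
    · obtain ⟨c, hc, rfl⟩ := Finset.mem_image.1 hb
      obtain ⟨k, hk, rfl⟩ := (Finset.mem_filter.1 hc).2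
      exact Finset.mem_filter.2 ⟨Finset.mem_univ _, h * k, H.mul_mem hh hk, by group⟩
    · rw [Finset.card_image_of_injective _ fun b c e => by simpa using e]
  set 𝔅 : Finset (Subgroup Y) := (S.powerset.image (piece hab S)).filter (· ≠ ⊥)
  have h𝔅 : ∀ W ∈ 𝔅, W ≠ ⊥ ∧ ∃ T ⊆ S, piece hab S T = W := fun W hW => by
    obtain ⟨h1, h2⟩ := Finset.mem_filter.1 hW
    obtain ⟨T, hT, e⟩ := Finset.mem_image.1 h1
    exact ⟨h2, T, Finset.mem_powerset.1 hT, e⟩
  have h𝔅V : ∀ W ∈ 𝔅, W ≤ V := fun W hW => by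
    obtain ⟨-, T, -, rfl⟩ := h𝔅 W hW; exact piece_le S T
  -- conjugation permutes the blocks
  have hconjV : ∀ v ∈ V, ∀ W : Subgroup Y, W ≤ V → W.map (MulAut.conj v).toMonoidHom = W := by
    intro v hv W hW
    have h1 : ∀ w ∈ W, v * w * v⁻¹ = w := fun w hw => by
      rw [hab v hv w (hW hw), mul_inv_cancel_right]
    refine le_antisymm ?_ fun w hw => ⟨w, hw, h1 w hw⟩
    rintro _ ⟨w, hw, rfl⟩
    show v * w * v⁻¹ ∈ W
    rw [h1 w hw]; exact hw
  have hperm : ∀ (y : Y), ∀ W ∈ 𝔅, W.map (MulAut.conj y).toMonoidHom ∈ 𝔅 := by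
    intro y W hW
    obtain ⟨hne, T, hT, rfl⟩ := h𝔅 W hW
    obtain ⟨v, hv, h, hh, rfl⟩ := hdec y
    rw [← Coprime.map_conj_map_conj, conj_piece, hSconj h hh, hconjV v hv _ (piece_le _ _)]
    refine Finset.mem_filter.2 ⟨Finset.mem_image_of_mem _ (Finset.mem_powerset.2 ?_), fun e => hne ?_⟩
    · conv_rhs => rw [← hSconj h hh]
      exact Finset.image_subset_image hT
    · rw [← Subgroup.map_eq_bot_iff_of_injective (f := (MulAut.conj h).toMonoidHom) _
        (MulAut.conj h).injective]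
      exact (conj_piece h S T).trans (by rw [hSconj h hh, e])
  letI : MulAction Y 𝔅 :=
    { smul := fun y W => ⟨W.1.map (MulAut.conj y).toMonoidHom, hperm y W.1 W.2⟩
      one_smul := fun W => Subtype.ext (Coprime.map_conj_one W.1)
      mul_smul := fun x y W => Subtype.ext (Coprime.map_conj_map_conj x y W.1).symm }
  let f : Y →* Equiv.Perm 𝔅 := MulAction.toPermHom Y 𝔅
  set B := f.ker
  have hVB : V ≤ B := fun v hv => MonoidHom.mem_ker.2 (Equiv.ext fun W =>
    Subtype.ext (hconjV v hv W.1 (h𝔅V W.1 W.2)))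
  have hBfix : ∀ b ∈ B, ∀ W ∈ 𝔅, W.map (MulAut.conj b).toMonoidHom = W := fun b hb W hW =>
    congrArg Subtype.val (Equiv.ext_iff.1 (MonoidHom.mem_ker.1 hb) ⟨W, hW⟩)
  -- the blocks are proper
  have hproper : ∀ W ∈ 𝔅, Nat.card W < p ^ n := fun W hW => by
    obtain ⟨-, T, -, e⟩ := h𝔅 W hW
    rw [← hn]
    refine lt_of_le_of_ne (card_le_of_le (h𝔅V W hW)) fun hc => ?_
    have hWV : W = V := eq_of_le_of_card_ge (h𝔅V W hW) hc.ge
    by_cases haT : a ∈ T
    · refine ha1 ?_
      have h1 : a ∈ centralizer (V : Set Y) := mem_centralizer_iff.2 fun v hv => by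
        rw [← hWV, ← e] at hv
        exact (hv.2.1 a haT).symm
      rw [hV.cent] at h1
      exact mem_bot.1 (hH.disjoint.le_bot ⟨h1, hAH haA⟩)
    · refine hfix (eq_bot_iff.2 ?_)
      rintro v ⟨hv, hva⟩
      have hv' : v ∈ piece hab S T := by rw [e, hWV]; exact hv
      have h1 := hv'.2.2 a haS haT
      rw [normMap, twist_fixed ((mem_centralizer_singleton_iff.1 hva).symm)] at h1
      have h2 := pow_gcd_eq_one.2 ⟨h1, hV.pow v hv⟩
      rw [(hcop a haS).gcd_eq_one, pow_one] at h2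
      exact mem_bot.2 h2
  have hsup : V ≤ ⨆ W ∈ 𝔅, W := by
    refine (le_iSup_piece (hab := hab) hV.pow S hcop fun b hb c hc =>
      hAc b (hSA b hb) c (hSA c hc)).trans (iSup₂_le fun T hT => ?_)
    rcases eq_or_ne (piece hab S T) ⊥ with h | h
    · rw [h]; exact bot_le
    · exact le_iSup₂_of_le _ (Finset.mem_filter.2 ⟨Finset.mem_image_of_mem _ hT, h⟩) le_rfl
  have hmapB : ∀ W ∈ 𝔅, (W.subgroupOf B).map B.subtype = W := fun W hW => by
    rw [subgroupOf_map_subtype, inf_eq_left.2 ((h𝔅V W hW).trans hVB)]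
  have hVB' : IsModule p (V.subgroupOf B) := by
    refine ⟨inferInstance, fun x hx y hy => Subtype.ext (hV.comm _ hx _ hy),
      fun x hx => Subtype.ext ((SubmonoidClass.coe_pow x p).trans (hV.pow _ hx)),
      fun h => hV.index (h.trans (relIndex_dvd_index_of_normal V B)), ?_⟩
    refine le_antisymm (fun y hy => ?_) (fun y hy => mem_centralizer_iff.2 fun d hd =>
      Subtype.ext (hV.comm _ hd _ hy))
    show (y : Y) ∈ V
    rw [← hV.cent]
    exact mem_centralizer_iff.2 fun v hv =>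
      congrArg Subtype.val (mem_centralizer_iff.1 hy ⟨v, hVB hv⟩ hv)
  obtain ⟨hr, hkB⟩ := kcard_pieces hb 𝔅.card B (V.subgroupOf B) n hVB'
    ((Nat.card_congr (subgroupOfEquivOfLe hVB).toEquiv).trans hn) (𝔅.image (·.subgroupOf B))
    (Finset.card_image_of_injOn (f := fun X : Subgroup Y => X.subgroupOf B) fun W hW W' hW' e => by
      rw [← hmapB W hW, ← hmapB W' hW']; exact congrArg _ e)
    (by
      intro W' hW'
      obtain ⟨W, hW, rfl⟩ := Finset.mem_image.1 hW'
      refine ⟨⟨fun x hx b => ?_⟩, fun e => (h𝔅 W hW).1 ?_, fun x hx => h𝔅V W hW hx, ?_⟩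
      · show (b : Y) * x * (b : Y)⁻¹ ∈ W
        rw [← hBfix b b.2 W hW]
        exact ⟨x, hx, rfl⟩
      · rw [← hmapB W hW, e, Subgroup.map_bot]
      · rw [Nat.card_congr (subgroupOfEquivOfLe ((h𝔅V W hW).trans hVB)).toEquiv]
        exact hproper W hW)
    (by
      intro W' hW'
      obtain ⟨W, hW, rfl⟩ := Finset.mem_image.1 hW'
      obtain ⟨-, T, hT, e⟩ := h𝔅 W hW
      rw [← Subgroup.map_eq_bot_iff_of_injective _ B.subtype_injective,
        map_inf _ _ _ B.subtype_injective, hmapB W hW, eq_bot_iff]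
      refine le_trans (inf_le_inf_left W ?_) ((congrArg (· ⊓ _) e.symm).trans_le
        (piece_inf_iSup (hab := hab) hV.pow S hcop hT).le)
      simp only [Subgroup.map_iSup]
      refine iSup₂_le fun X hX => iSup_le fun hne => ?_
      obtain ⟨W₂, h₂, rfl⟩ := Finset.mem_image.1 hX
      rw [hmapB W₂ h₂]
      obtain ⟨-, T₂, hT₂, e₂⟩ := h𝔅 W₂ h₂
      refine le_iSup₂_of_le T₂ (Finset.mem_powerset.2 hT₂) ?_
      rw [← e₂]
      refine le_iSup (fun _ : T₂ ≠ T => piece hab S T₂) fun h => hne ?_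
      rw [← e₂, ← e, h])
    (by
      rw [← Subgroup.map_le_map_iff_of_injective B.subtype_injective, subgroupOf_map_subtype,
        inf_eq_left.2 hVB]
      simp only [Subgroup.map_iSup]
      refine hsup.trans (iSup₂_le fun W hW => ?_)
      refine le_trans (hmapB W hW).ge ?_
      exact le_iSup₂_of_le (f := fun (X : Subgroup B) (_ : X ∈ _) => X.map B.subtype)
        (W.subgroupOf B) (Finset.mem_image_of_mem _ hW) le_rfl)
  haveI : Nonempty 𝔅 := by
    by_contra hne
    rw [not_nonempty_iff] at hne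
    have h1 : V = ⊥ := le_bot_iff.1 (hsup.trans (iSup₂_le fun W hW => (hne.false ⟨W, hW⟩).elim))
    exact hfix (by rw [h1, bot_inf_eq])
  letI : MulAction (Y ⧸ B) 𝔅 := MulAction.compHom _ (QuotientGroup.kerLift f)
  haveI : FaithfulSMul (Y ⧸ B) 𝔅 :=
    ⟨fun {x y} h => QuotientGroup.kerLift_injective f (Equiv.ext h)⟩
  have hkQ := kcard_perm_le (T := Y ⧸ B) (Ω := 𝔅)
  rw [Nat.card_eq_finsetCard] at hkQ
  have hr1 : 1 ≤ 𝔅.card := by
    rw [← Nat.card_eq_finsetCard]; exact Nat.card_pos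
  refine (H77.kcard_le_mul_quotient B).trans ((Nat.mul_le_mul hkB hkQ).trans (le_of_eq ?_))
  rw [mul_right_comm, ← pow_add]
  congr 2
  omega

/-- An abelian group of order prime to `p` acting semiregularly on a nontrivial `V` is cyclic. -/
theorem isCyclic_of_semiregular (hV : IsModule p V) (hne : V ≠ ⊥) {A : Subgroup Y}
    (hcop : ¬ p ∣ Nat.card A) (hAc : ∀ a ∈ A, ∀ b ∈ A, a * b = b * a)
    (hfpf : ∀ a ∈ A, a ≠ 1 → V ⊓ centralizer ({a} : Set Y) = ⊥) : IsCyclic A := by
  by_contra hA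
  haveI : IsMulCommutative A := ⟨⟨fun a b => Subtype.ext (hAc a a.2 b b.2)⟩⟩
  haveI := hV.normal
  obtain ⟨k, hk⟩ := hV.card_eq_pow le_rfl
  refine hne (le_bot_iff.1 (Coprime.le_of_centralizer_noncyclic_le (K := V) hA
    (by rw [normalizer_eq_top_iff.2 hV.normal]; exact le_top) ?_ fun a ha h1 => (hfpf a ha h1).le))
  rw [hk]
  exact (hp.out.coprime_iff_not_dvd.2 hcop).symm.pow_right k

theorem kcard_primitive [Group.IsSolvable Y] (hV : IsModule p V) {n : ℕ} (hn : Nat.card V = p ^ n)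
    (hn1 : 1 ≤ n) {H : Subgroup Y} (hH : IsComplement' V H) (hqp : IsQuasiPrimitive V H) :
    Nat.card (ConjClasses Y) ≤ 3 ^ (n - 1) * p ^ n := by
  classical
  haveI := hV.normal
  haveI := Fintype.ofFinite Y
  have hHp : ¬ p ∣ Nat.card H := hH.symm.index_eq_card ▸ hV.index
  have hne : V ≠ ⊥ := fun h => by
    rw [h, card_bot] at hn
    exact absurd hn (Nat.one_lt_pow (by omega) hp.out.one_lt).ne
  set F := Cfsg.fittingSubgroup H
  haveI hFn : Group.IsNilpotent F := Cores.fittingSubgroup_isNilpotent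
  -- the derived subgroup of the Fitting subgroup
  have hHnorm : ∀ (L : Subgroup H) [L.Normal], H ≤ normalizer ((L.map H.subtype : Subgroup Y) : Set Y) :=
    fun L hL h hh => Coprime.mem_normalizer_of_map_conj (by
      rw [Subgroup.map_map]
      refine le_antisymm ?_ ?_
      · rintro _ ⟨x, hx, rfl⟩
        exact ⟨(⟨h, hh⟩ : H) * x * (⟨h, hh⟩ : H)⁻¹, hL.conj_mem x hx _, rfl⟩
      · rintro _ ⟨x, hx, rfl⟩
        refine ⟨(⟨h, hh⟩ : H)⁻¹ * x * (⟨h, hh⟩ : H)⁻¹⁻¹, hL.conj_mem x hx _, ?_⟩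
        show h * (h⁻¹ * (x : Y) * h⁻¹⁻¹) * h⁻¹ = (x : Y)
        group)
  set D := _root_.commutator F
  let j : Subgroup H := (((center D).map D.subtype).map F.subtype)
  haveI : F.Normal := inferInstance
  haveI : ((center D).map D.subtype).Characteristic := inferInstance
  haveI : D.Characteristic := inferInstance
  haveI hjn : j.Normal := inferInstance
  have hDY : ∀ z ∈ (D.map F.subtype).map H.subtype, z ∈ H := by
    rintro _ ⟨x, -, rfl⟩; exact x.2
  have hZc : ∀ x ∈ j.map H.subtype, ∀ y ∈ j.map H.subtype, x * y = y * x := by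
    rintro _ ⟨_, ⟨_, ⟨x, hx, rfl⟩, rfl⟩, rfl⟩ _ ⟨_, ⟨_, ⟨y, hy, rfl⟩, rfl⟩, rfl⟩
    have h : (x * y : D) = y * x := ((mem_center_iff.1 hx) y).symm
    exact congrArg (fun d : D => (((d : F) : H) : Y)) h
  have hfpf : ∀ L : Subgroup H, L.Normal → (∀ x ∈ L, ∀ y ∈ L, x * y = y * x) →
      ∀ x ∈ L, x ≠ 1 → V ⊓ centralizer ({(x : Y)} : Set Y) = ⊥ := by
    intro L hL hc x hx hx1
    haveI := hL
    refine hqp (L.map H.subtype) (map_subtype_le L) (hHnorm L) ?_ _ (mem_map_of_mem _ hx)
      fun h => hx1 (Subtype.ext h)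
    rintro _ ⟨a, ha, rfl⟩ _ ⟨b, hb, rfl⟩
    exact congrArg Subtype.val (hc a ha b hb)
  have hZfpf : ∀ x ∈ j.map H.subtype, x ≠ 1 → V ⊓ centralizer ({x} : Set Y) = ⊥ := by
    rintro _ ⟨x, hx, rfl⟩ h1
    exact hfpf j hjn (fun a ha b hb => Subtype.ext (hZc _ (mem_map_of_mem _ ha) _ (mem_map_of_mem _ hb)))
      x hx fun h => h1 (by rw [h]; rfl)
  haveI hcycY : IsCyclic (j.map H.subtype : Subgroup Y) :=
    isCyclic_of_semiregular hV hne
      (fun h => hHp (h.trans (card_dvd_of_le (map_subtype_le j)))) hZc hZfpf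
  have hcyc : IsCyclic (center D) := by
    let e : center D ≃* (j.map H.subtype : Subgroup Y) :=
      ((center D).equivMapOfInjective D.subtype D.subtype_injective).trans
        ((((center D).map D.subtype).equivMapOfInjective F.subtype F.subtype_injective).trans
          (j.equivMapOfInjective H.subtype H.subtype_injective))
    exact isCyclic_of_surjective e.symm e.symm.surjective
  have hDc := commutator_comm_of_cyclic_center hFn hcyc
  -- `L = V F`
  set Fm := F.map H.subtype
  have hFmH : Fm ≤ H := map_subtype_le F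
  set L := V ⊔ Fm
  haveI hLn : L.Normal := by
    refine ⟨fun x hx y => ?_⟩
    obtain ⟨v, hv, g, hg, rfl⟩ := mem_sup_of_normal_left.1 hx
    obtain ⟨⟨w, h⟩, e⟩ := hH.2 y
    change (w : Y) * h = y at e
    rw [show y * (v * g) * y⁻¹ = (y * v * y⁻¹) * (y * g * y⁻¹) by group]
    refine L.mul_mem (le_sup_left (a := V) (hV.normal.conj_mem v hv y)) ?_
    rw [← e, show (w : Y) * h * g * ((w : Y) * h)⁻¹ = w * ((h : Y) * g * (h : Y)⁻¹) * (w : Y)⁻¹ by group]
    exact L.mul_mem (L.mul_mem (le_sup_left (a := V) w.2)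
      (le_sup_right (a := V) (Coprime.conj_mem (hHnorm F h.2) hg))) (le_sup_left (a := V) (V.inv_mem w.2))
  have hVL : V ≤ L := le_sup_left
  have hFL : Fm ≤ L := le_sup_right
  obtain ⟨v, hv, hv1⟩ := V.bot_or_exists_ne_one.resolve_left hne
  set C₀ := (Fm ⊓ centralizer ({v} : Set Y)).subgroupOf L
  have hC₀comm : ∀ a b : C₀, a * b = b * a := by
    intro a b
    obtain ⟨⟨a', ha', ea⟩, hac⟩ := a.2
    obtain ⟨⟨b', hb', eb⟩, hbc⟩ := b.2
    have hK : ⁅((a : L) : Y), ((b : L) : Y)⁆ = 1 := by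
      by_contra hne1
      have hmem : ⁅(⟨a', ha'⟩ : F), (⟨b', hb'⟩ : F)⁆ ∈ D := by
        show _ ∈ _root_.commutator F
        rw [_root_.commutator_def]; exact commutator_mem_commutator (mem_top _) (mem_top _)
      have hx : ((⁅(⟨a', ha'⟩ : F), (⟨b', hb'⟩ : F)⁆ : F) : H) ∈ D.map F.subtype :=
        mem_map_of_mem _ hmem
      have h2 := hfpf (D.map F.subtype) inferInstance ?_ _ hx ?_
      · have h3 : v ∈ V ⊓ centralizer
            ({((((⁅(⟨a', ha'⟩ : F), (⟨b', hb'⟩ : F)⁆ : F) : H)) : Y)} : Set Y) := by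
          refine ⟨hv, mem_centralizer_singleton_iff.2 ?_⟩
          have h4 : ⁅((a : L) : Y), ((b : L) : Y)⁆ ∈ centralizer ({v} : Set Y) := by
            rw [commutatorElement_def]
            exact mul_mem (mul_mem (mul_mem hac hbc) (inv_mem hac)) (inv_mem hbc)
          rw [mem_centralizer_singleton_iff] at h4
          rw [show ((a : L) : Y) = (a' : Y) from ea.symm, show ((b : L) : Y) = (b' : Y) from eb.symm]
            at h4
          exact h4.symm
        rw [h2, mem_bot] at h3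
        exact hv1 h3
      · rintro _ ⟨x, hx, rfl⟩ _ ⟨y, hy, rfl⟩
        exact congrArg Subtype.val (hDc x hx y hy)
      · intro h
        apply hne1
        rw [show ((a : L) : Y) = (a' : Y) from ea.symm, show ((b : L) : Y) = (b' : Y) from eb.symm]
        exact congrArg Subtype.val h
    exact Subtype.ext (Subtype.ext (commutatorElement_eq_one_iff_mul_comm.1 hK))
  letI : CommGroup C₀ := { (inferInstance : Group C₀) with mul_comm := hC₀comm }
  have hkL : Nat.card (ConjClasses L) ≤ p ^ n := by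
    rw [← hn, ← Nat.card_congr (subgroupOfEquivOfLe hVL).toEquiv]
    haveI : (V.subgroupOf L).Normal := inferInstance
    refine H86.knorr_bound (p := p) (V := V.subgroupOf L) (G := Fm.subgroupOf L) (C := C₀)
      (fun a => ⟨1, Subtype.ext (Subtype.ext ?_)⟩)
      (fun h => hV.index (h.trans (relIndex_dvd_index_of_normal V L)))
      (fun a ha b hb => Subtype.ext (hV.comm _ ha _ hb)) ?_ ?_ C₀.subtype C₀.subtype_injective
      (v := (⟨v, hVL hv⟩ : L)) hv ?_
    · rw [pow_one]; exact hV.pow _ a.2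
    · refine le_antisymm (fun y hy => ?_) (fun y hy => mem_centralizer_iff.2 fun d hd =>
        Subtype.ext (hV.comm _ hd _ hy))
      show (y : Y) ∈ V
      rw [← hV.cent]
      exact mem_centralizer_iff.2 fun w hw =>
        congrArg Subtype.val (mem_centralizer_iff.1 hy ⟨w, hVL hw⟩ hw)
    · refine isComplement'_of_disjoint_and_mul_eq_univ ?_ ?_
      · rw [disjoint_iff, eq_bot_iff]
        rintro y ⟨hyV, hyF⟩
        exact Subgroup.mem_bot.2 (Subtype.ext (mem_bot.1 (hH.disjoint.le_bot ⟨hyV, hFmH hyF⟩)))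
      · refine Set.eq_univ_of_forall fun y => ?_
        obtain ⟨a, ha, b, hb, e⟩ := mem_sup_of_normal_left.1 y.2
        exact ⟨⟨a, hVL ha⟩, ha, ⟨b, hFL hb⟩, hb, Subtype.ext e⟩
    · rw [Subgroup.range_subtype]
      ext y
      simp only [C₀, mem_subgroupOf, mem_inf, mem_centralizer_singleton_iff]
      exact and_congr_right fun _ => ⟨fun h => Subtype.ext h, fun h => congrArg Subtype.val h⟩
  -- `H / F` via a lift to the complex numbers
  have hkq : Nat.card (ConjClasses (Y ⧸ L)) ≤ 3 ^ (n - 1) := by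
    letI : CommGroup V := { (inferInstance : Group V) with
      mul_comm := fun a b => Subtype.ext (hV.comm a a.2 b b.2) }
    letI : Module (ZMod p) (Additive V) := AddCommGroup.zmodModule (G := Additive V) (n := p)
      fun x => Additive.toMul.injective (Subtype.ext ((SubmonoidClass.coe_pow x.toMul p).trans
        (hV.pow (x.toMul : Y) x.toMul.2)))
    haveI : Finite (Additive V) := inferInstanceAs (Finite V)
    haveI : Module.Finite (ZMod p) (Additive V) := Module.Finite.of_finite (R := ZMod p)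
    have hrank : Module.finrank (ZMod p) (Additive V) = n := by
      have h1 := Module.natCard_eq_pow_finrank (K := ZMod p) (V := Additive V)
      rw [Nat.card_zmod, Nat.card_congr Additive.toMul, hn] at h1
      exact (Nat.pow_right_injective hp.out.two_le h1).symm
    let b := Module.finBasisOfFinrankEq (ZMod p) (Additive V) hrank
    let c : H → V →* V := fun h =>
      { toFun := fun v => ⟨(h : Y) * v * (h : Y)⁻¹, hV.normal.conj_mem v v.2 h⟩
        map_one' := Subtype.ext (by simp)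
        map_mul' := fun v w => Subtype.ext
          (show (h : Y) * ((v : Y) * w) * (h : Y)⁻¹ =
              (h : Y) * v * (h : Y)⁻¹ * ((h : Y) * w * (h : Y)⁻¹) by group) }
    let r : H →* Module.End (ZMod p) (Additive V) :=
      { toFun := fun h =>
          (MonoidHom.toAdditive (c h)).toZModLinearMap p
        map_one' := LinearMap.ext fun x => Additive.toMul.injective (Subtype.ext
          (show (((1 : H) : Y)) * (x.toMul : Y) * (((1 : H) : Y))⁻¹ = (x.toMul : Y) by
            rw [OneMemClass.coe_one]; group))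
        map_mul' := fun h k => LinearMap.ext fun x => Additive.toMul.injective (Subtype.ext
          (show ((h * k : H) : Y) * (x.toMul : Y) * ((h * k : H) : Y)⁻¹ =
              (h : Y) * ((k : Y) * (x.toMul : Y) * (k : Y)⁻¹) * (h : Y)⁻¹ by
            rw [Subgroup.coe_mul]; group)) }
    let ρ : H →* GL (Fin n) (ZMod p) :=
      ((LinearMap.toMatrixAlgEquiv b).toAlgHom.toMonoidHom.comp r).toHomUnits
    have hρ : Function.Injective ρ := by
      refine (injective_iff_map_eq_one ρ).2 fun h hh => ?_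
      have h1 : r h = 1 := (LinearMap.toMatrixAlgEquiv b).injective
        ((congrArg Units.val hh).trans (map_one (LinearMap.toMatrixAlgEquiv b)).symm)
      have h2 : (h : Y) ∈ centralizer (V : Set Y) := mem_centralizer_iff.2 fun w hw => by
        have h3 := congrArg (fun l : Module.End (ZMod p) (Additive V) =>
          ((l (Additive.ofMul ⟨w, hw⟩)).toMul : Y)) h1
        change (h : Y) * w * (h : Y)⁻¹ = w at h3
        exact (mul_inv_eq_iff_eq_mul.1 h3).symm
      rw [hV.cent] at h2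
      exact Subtype.ext (mem_bot.1 (hH.disjoint.le_bot ⟨h2, h.2⟩))
    obtain ⟨σ, hσ⟩ := exists_complex_lift hHp ρ hρ
    let σ' : H →* Module.End ℂ (Fin n → ℂ) :=
      ((Matrix.toLinAlgEquiv' : Matrix (Fin n) (Fin n) ℂ ≃ₐ[ℂ] _).toAlgHom.toMonoidHom.comp
        (Units.coeHom _)).comp σ
    have hσ' : Function.Injective σ' := fun x y h => hσ (Units.ext (Matrix.toLinAlgEquiv'.injective h))
    have hK := H30.ClassFit.boundBelow (n + 1) H (Fin n → ℂ) σ' hσ' (by simp)
    rw [Module.finrank_fin_fun] at hK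
    let g : H ⧸ F →* Y ⧸ L := QuotientGroup.map F L H.subtype fun x hx => hFL ⟨x, hx, rfl⟩
    have hg : Function.Surjective g := by
      intro q
      obtain ⟨y, rfl⟩ := QuotientGroup.mk_surjective q
      obtain ⟨⟨w, h⟩, e⟩ := hH.2 y
      refine ⟨QuotientGroup.mk h, QuotientGroup.eq.2 ?_⟩
      rw [← e]
      change (h : Y)⁻¹ * ((w : Y) * h) ∈ L
      rw [← mul_assoc]
      have := hV.normal.conj_mem _ w.2 (h : Y)⁻¹
      rw [inv_inv] at this
      exact hVL this
    exact (kcard_le_of_surjective g hg).trans hK.kcard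
  refine (H77.kcard_le_mul_quotient L).trans ((Nat.mul_le_mul hkL hkq).trans (le_of_eq (mul_comm _ _)))

/-- **The linear case.** -/
theorem boundUpTo : ∀ n₀, BoundUpTo.{u} p n₀ := by
  intro n₀
  induction n₀ with
  | zero => intro n h; omega
  | succ n₀ ih =>
    intro n hlt Y _ _ _ V hV hn
    rcases Nat.lt_or_ge n n₀ with h | h
    · exact ih n h Y V hV hn
    obtain rfl : n = n₀ := by omega
    rcases Nat.eq_zero_or_pos n with rfl | hn1
    · rw [pow_zero] at hn
      simpa using le_one_of_bot hV (card_eq_one.1 hn)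
    haveI := hV.normal
    obtain ⟨H, hH⟩ := exists_right_complement'_of_coprime hV.coprime
    by_cases hqp : IsQuasiPrimitive V H
    · exact kcard_primitive hV hn hn1 hH hqp
    · exact kcard_blocks hV hn ih hH hqp

theorem kcard_linear [Group.IsSolvable Y] (hV : IsModule p V) {n : ℕ} (hn : Nat.card V = p ^ n) :
    Nat.card (ConjClasses Y) ≤ 3 ^ (n - 1) * p ^ n :=
  boundUpTo (n + 1) n n.lt_succ_self Y V hV hn

end Cfsg.Agent.H35.SolvBlock
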