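import Cfsg.Agent.Cores.Constrained
import Cfsg.Agent.Coprime.Centralize
import Cfsg.Agent.PGroups.Basic
import Cfsg.Agent.H35.SolvBlock.Linear

/-!
# `k(X) ≤ 3 ^ (a - 1) p ^ a` for a solvable group with trivial `p'`-core and `p ^ a` in its order
-/

set_option autoImplicit false
set_option linter.style.haveILetI false

namespace Cfsg.Agent.H35.SolvBlock

open Subgroup Cfsg.Agent.H30.ClassFit
open scoped commutatorElement

universe u

variable {p : ℕ} [hp : Fact p.Prime]

theorem natCard_mul_relIndex {X : Type u} [Group X] {A B : Subgroup X} (h : A ≤ B) :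
    Nat.card A * A.relIndex B = Nat.card B := by
  rw [← relIndex_bot_left, relIndex_mul_relIndex _ _ _ bot_le h, relIndex_bot_left]

theorem pPrimeCore_quotient_eq_bot {X : Type u} [Group X] [Finite X] (P : Subgroup X) [P.Normal]
    (K : Subgroup X) [K.Normal]
    (hK : K = (Cfsg.pPrimeCore p (X ⧸ P)).comap (QuotientGroup.mk' P)) :
    Cfsg.pPrimeCore p (X ⧸ K) = ⊥ := by
  set π := QuotientGroup.mk' K
  set L := (Cfsg.pPrimeCore p (X ⧸ K)).comap π with hL
  haveI : L.Normal := inferInstance
  have hKL : K ≤ L := fun x hx => by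
    rw [hL, mem_comap, show π x = 1 from (QuotientGroup.eq_one_iff x).2 hx]
    exact one_mem _
  have hPK : P ≤ K := fun x hx => by
    rw [hK, mem_comap, show QuotientGroup.mk' P x = 1 from (QuotientGroup.eq_one_iff x).2 hx]
    exact one_mem _
  have h1 : (K.relIndex L).Coprime p := by
    have h : Nat.card (L.map π) = K.relIndex L := by
      rw [← relIndex_ker (K := L) π, QuotientGroup.ker_mk']
    rw [← h, hL, map_comap_eq_self_of_surjective (QuotientGroup.mk'_surjective K)]
    exact Cores.coprime_card_pPrimeCore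
  have h2 : (P.relIndex K).Coprime p := by
    have h : Nat.card (K.map (QuotientGroup.mk' P)) = P.relIndex K := by
      rw [← relIndex_ker (K := K) (QuotientGroup.mk' P), QuotientGroup.ker_mk']
    rw [← h, hK, map_comap_eq_self_of_surjective (QuotientGroup.mk'_surjective P)]
    exact Cores.coprime_card_pPrimeCore
  haveI : (L.map (QuotientGroup.mk' P)).Normal :=
    (inferInstance : L.Normal).map _ (QuotientGroup.mk'_surjective P)
  have h3 : L.map (QuotientGroup.mk' P) ≤ Cfsg.pPrimeCore p (X ⧸ P) := Cores.le_pPrimeCore (by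
    rw [← relIndex_ker (K := L) (QuotientGroup.mk' P), QuotientGroup.ker_mk',
      ← relIndex_mul_relIndex P K L hPK hKL]
    exact Nat.Coprime.mul_left h2 h1)
  have h4 : L ≤ K := by
    rw [hK]
    exact (map_le_iff_le_comap).1 h3
  rw [← map_comap_eq_self_of_surjective (QuotientGroup.mk'_surjective K)
    (Cfsg.pPrimeCore p (X ⧸ K)), Subgroup.map_eq_bot_iff, QuotientGroup.ker_mk']
  exact h4

/-- **The class number of a solvable group with trivial `p'`-core.** -/
theorem kcard_le_of_pPrimeCore_eq_bot : ∀ (m : ℕ) (X : Type u) [Group X] [Finite X]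
    [Group.IsSolvable X], Nat.card X ≤ m → Cfsg.pPrimeCore p X = ⊥ →
    Nat.card (ConjClasses X) ≤
      3 ^ ((Nat.card X).factorization p - 1) * p ^ (Nat.card X).factorization p := by
  intro m
  induction m with
  | zero => intro X _ _ _ h; exact absurd h (not_le.2 Nat.card_pos)
  | succ m ih =>
    intro X _ _ _ hm hcore
    classical
    rcases subsingleton_or_nontrivial X with hs | hs
    · refine (kcard_le_card.trans (le_of_eq Nat.card_unique)).trans (Nat.one_le_iff_ne_zero.2 ?_)
      have := hp.out.ne_zero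
      positivity
    haveI := Fintype.ofFinite X
    have hsol : Cfsg.IsPSolvable p X := Cores.isPSolvable_of_isSolvable
    set P := Cfsg.pCore p X
    haveI hPn : P.Normal := inferInstance
    have hPne : P ≠ ⊥ := Cores.pCore_ne_bot_of_pPrimeCore_eq_bot hsol hcore
    have hPp : IsPGroup p P := Cores.pCore_isPGroup
    haveI : (frattini P).Characteristic := inferInstance
    set Φ := (frattini P).map P.subtype
    haveI hΦn : Φ.Normal := inferInstance
    have hΦP : Φ ≤ P := map_subtype_le _
    set K := (Cfsg.pPrimeCore p (X ⧸ P)).comap (QuotientGroup.mk' P) with hK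
    haveI hKn : K.Normal := inferInstance
    have hPK : P ≤ K := fun x hx => by
      rw [hK, mem_comap, show QuotientGroup.mk' P x = 1 from (QuotientGroup.eq_one_iff x).2 hx]
      exact one_mem _
    have hPrel : ¬ p ∣ P.relIndex K := by
      have h : Nat.card (K.map (QuotientGroup.mk' P)) = P.relIndex K := by
        rw [← relIndex_ker (K := K) (QuotientGroup.mk' P), QuotientGroup.ker_mk']
      rw [← h, hK, map_comap_eq_self_of_surjective (QuotientGroup.mk'_surjective P)]
      exact Cores.not_dvd_card_pPrimeCore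
    set Φ' := Φ.subgroupOf K
    haveI : Φ'.Normal := inferInstance
    let π := QuotientGroup.mk' Φ'
    set V : Subgroup (K ⧸ Φ') := (P.subgroupOf K).map π
    have hmem : ∀ {y : K}, π y = 1 ↔ (y : X) ∈ Φ := fun {y} =>
      (QuotientGroup.eq_one_iff y).trans mem_subgroupOf
    have hcommΦ : ∀ a ∈ P, ∀ b ∈ P, ⁅a, b⁆ ∈ Φ := fun a ha b hb =>
      ⟨⁅(⟨a, ha⟩ : P), ⟨b, hb⟩⁆, PGroups.commutator_le_frattini hPp (by
        rw [_root_.commutator_def]
        exact commutator_mem_commutator (mem_top _) (mem_top _)), rfl⟩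
    have hab : ∀ a ∈ V, ∀ b ∈ V, a * b = b * a := by
      rintro _ ⟨a, ha, rfl⟩ _ ⟨b, hb, rfl⟩
      rw [← commutatorElement_eq_one_iff_mul_comm, ← map_commutatorElement, hmem]
      exact hcommΦ _ ha _ hb
    have hcent : centralizer (V : Set (K ⧸ Φ')) = V := by
      refine le_antisymm ?_ fun q hq => mem_centralizer_iff.2 fun d hd => hab d hd q hq
      set C : Subgroup X := ((centralizer (V : Set (K ⧸ Φ'))).comap π).map K.subtype
      have htriv : ∀ a ∈ C, ∀ k ∈ P, a * k * a⁻¹ * k⁻¹ ∈ Φ := by
        rintro _ ⟨a, ha, rfl⟩ k hk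
        have h := mem_centralizer_iff.1 ha (π ⟨k, hPK hk⟩)
          (mem_map_of_mem π (show (⟨k, hPK hk⟩ : K) ∈ P.subgroupOf K from hk))
        have h1 : π ⁅a, (⟨k, hPK hk⟩ : K)⁆ = 1 := by
          rw [map_commutatorElement, commutatorElement_eq_one_iff_mul_comm]
          exact h.symm
        exact hmem.1 h1
      intro q hq
      obtain ⟨y, rfl⟩ := QuotientGroup.mk'_surjective Φ' q
      refine ⟨y, ?_, rfl⟩
      have hyC : (y : X) ∈ C := ⟨y, hq, rfl⟩
      obtain ⟨e, r, hr, hn⟩ := Nat.exists_eq_pow_mul_and_not_dvd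
        (orderOf_pos (y : X)).ne' p hp.out.ne_one
      set a := (y : X) ^ p ^ e
      have ha : orderOf a = r := by
        rw [orderOf_pow' _ (pow_ne_zero e hp.out.ne_zero), hn,
          Nat.gcd_eq_right (dvd_mul_right _ _), Nat.mul_div_cancel_left _ (pow_pos hp.out.pos e)]
      have hA : zpowers a ≤ centralizer (P : Set X) := by
        refine Coprime.le_centralizer_of_frattini
          (by rw [normalizer_eq_top_iff.2 hPn]; exact le_top) ?_ ?_
        · obtain ⟨f, hf⟩ := IsPGroup.iff_card.1 (hPp.to_subgroup (frattini P))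
          rw [Nat.card_zpowers, ha, hf]
          exact (hp.out.coprime_iff_not_dvd.2 hr).symm.pow_right f
        · intro x hx k hk
          exact htriv x (zpowers_le.2 (pow_mem hyC _) hx) k hk
      have haP : a ∈ P := Cores.centralizer_pCore_le hsol hcore (hA (mem_zpowers a))
      have ha1 : a = 1 := by
        obtain ⟨k, hk⟩ := hPp ⟨a, haP⟩
        have hdvd : r ∣ p ^ k := ha ▸ orderOf_dvd_of_pow_eq_one (congrArg Subtype.val hk)
        rw [← orderOf_eq_one_iff, ha]
        exact Nat.eq_one_of_dvd_coprimes ((hp.out.coprime_iff_not_dvd.2 hr).pow_left k) hdvd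
          dvd_rfl
      show y ∈ P.subgroupOf K
      haveI : (P.subgroupOf K).Normal := inferInstance
      rw [← QuotientGroup.eq_one_iff (N := P.subgroupOf K), ← orderOf_eq_one_iff]
      refine Nat.eq_one_of_dvd_coprimes
        ((hp.out.coprime_iff_not_dvd.2 hPrel).pow_left e) (orderOf_dvd_of_pow_eq_one ?_) ?_
      · rw [← QuotientGroup.mk_pow]
        exact (QuotientGroup.eq_one_iff _).2 (show (((y ^ p ^ e : K)) : X) ∈ P by
          rw [SubmonoidClass.coe_pow, show (y : X) ^ p ^ e = 1 from ha1]; exact P.one_mem)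
      · exact orderOf_dvd_natCard _
    have hV : IsModule p V := by
      refine ⟨(inferInstance : (P.subgroupOf K).Normal).map π (QuotientGroup.mk'_surjective Φ'),
        hab, ?_, ?_, hcent⟩
      · rintro _ ⟨a, ha, rfl⟩
        rw [← map_pow, hmem, SubmonoidClass.coe_pow]
        exact ⟨(⟨(a : X), ha⟩ : P) ^ p, PGroups.pow_mem_frattini hPp _, by simp⟩
      · intro h
        exact hPrel (h.trans ((P.subgroupOf K).index_map_dvd (QuotientGroup.mk'_surjective Φ')))
    obtain ⟨n, hn⟩ := hV.card_eq_pow le_rfl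
    have hcardP : Nat.card P = Nat.card Φ * p ^ n := by
      rw [← hn]
      have h := relIndex_ker (K := P.subgroupOf K) π
      rw [QuotientGroup.ker_mk'] at h
      have h2 : Φ'.relIndex (P.subgroupOf K) = Φ.relIndex P :=
        relIndex_subgroupOf hPK
      rw [show Nat.card V = Φ.relIndex P from h.symm.trans h2, ← natCard_mul_relIndex hΦP]
    obtain ⟨f, hf⟩ := IsPGroup.iff_card.1 (hPp.to_le hΦP)
    have hn1 : 1 ≤ n := by
      refine Nat.one_le_iff_ne_zero.2 fun h0 => ?_
      haveI : Nontrivial P := P.nontrivial_iff_ne_bot.2 hPne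
      rw [h0, pow_zero, mul_one, card_map_of_injective P.subtype_injective] at hcardP
      have h1 : frattini P = ⊤ := eq_top_of_card_eq _ hcardP.symm
      exact bot_ne_top (frattini_nongenerating (K := (⊥ : Subgroup P)) (by rw [h1, sup_top_eq]))
    have hk1 : Nat.card (ConjClasses K) ≤ p ^ f * (3 ^ (n - 1) * p ^ n) := by
      refine (H77.kcard_le_mul_quotient Φ').trans (Nat.mul_le_mul ?_ (kcard_linear hV hn))
      refine kcard_le_card.trans (le_of_eq ?_)
      rw [Nat.card_congr (subgroupOfEquivOfLe (hΦP.trans hPK)).toEquiv, hf]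
    haveI : Group.IsSolvable (X ⧸ K) :=
      Group.isSolvable_of_surjective (QuotientGroup.mk'_surjective K)
    have hcardX : Nat.card X = Nat.card P * P.relIndex K * Nat.card (X ⧸ K) := by
      rw [← card_mul_index K, index_eq_card, ← natCard_mul_relIndex hPK]
    have hlt : Nat.card (X ⧸ K) ≤ m := by
      have h2 : 2 ≤ Nat.card P * P.relIndex K := by
        rw [natCard_mul_relIndex hPK]
        exact (one_lt_card_iff_ne_bot K).2 fun h => hPne (le_bot_iff.1 (h ▸ hPK))
      have h3 : 0 < Nat.card (X ⧸ K) := Nat.card_pos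
      nlinarith
    have hk2 := ih (X ⧸ K) hlt (pPrimeCore_quotient_eq_bot P K hK)
    set b := (Nat.card (X ⧸ K)).factorization p
    have hfac : (Nat.card X).factorization p = f + n + b := by
      rw [hcardX, hcardP, hf, ← pow_add, Nat.factorization_mul, Nat.factorization_mul]
      · rw [Finsupp.add_apply, Finsupp.add_apply, hp.out.factorization_pow, Finsupp.single_eq_same,
          Nat.factorization_eq_zero_of_not_dvd hPrel, add_zero]
      · exact pow_ne_zero _ hp.out.ne_zero
      · exact fun h => hPrel (h ▸ dvd_zero p)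
      · exact mul_ne_zero (pow_ne_zero _ hp.out.ne_zero) fun h => hPrel (h ▸ dvd_zero p)
      · exact Nat.card_pos.ne'
    refine (H77.kcard_le_mul_quotient K).trans ((Nat.mul_le_mul hk1 hk2).trans ?_)
    rw [hfac]
    calc p ^ f * (3 ^ (n - 1) * p ^ n) * (3 ^ (b - 1) * p ^ b)
        = 3 ^ (n - 1 + (b - 1)) * p ^ (f + n + b) := by simp only [pow_add]; ring
      _ ≤ _ := Nat.mul_le_mul_right _ (Nat.pow_le_pow_right (by norm_num) (by omega))

end Cfsg.Agent.H35.SolvBlock
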