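import Cfsg.Agent.BlockBasic.SingleBlock
import Cfsg.Agent.H1.FongReynoldsG
import Cfsg.Agent.H82.OverTheta
import Cfsg.Agent.H35.Defect
import Cfsg.Agent.H35.SolvBlock.AboveCount
import Cfsg.Agent.H35.SolvBlock.Solvable

/-!
# The size of a `p`-block of a solvable group
-/

set_option autoImplicit false
set_option linter.style.haveILetI false

namespace Cfsg.Agent.H35.SolvBlock

open Cfsg.Agent.BlockBasic

universe u

variable {p : ℕ} [hp : Fact p.Prime] {M : Ideal Cfsg.AlgInt}

theorem charDegree_indFun {G : Type u} [Group G] [Fintype G] {T : Subgroup G} [Fintype T]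
    {χ : Cfsg.IrrCharacter G} {ψ : Cfsg.IrrCharacter T}
    (h : (χ : G → ℂ) = Cfsg.indFun T (ψ : T → ℂ)) :
    Cfsg.charDegree (χ : G → ℂ) = T.index * Cfsg.charDegree (ψ : T → ℂ) := by
  have h1 := congrFun h 1
  rw [CharInduce.indFun_one, apply_one_eq_charDegree χ, apply_one_eq_charDegree ψ,
    ← Nat.cast_mul, Nat.cast_inj] at h1
  exact h1

/-- Induction from the stabiliser of a constituent preserves the size and the defect of a block. -/
theorem exists_block_inertia {G : Type u} [Group G] [Fintype G] (hM : Cfsg.IsPModular p M)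
    (N : Subgroup G) [N.Normal] [Fintype N] (hN : ¬ p ∣ Nat.card N) (θ : Cfsg.IrrCharacter N)
    (χ : Cfsg.IrrCharacter G)
    (hχ : Cfsg.classInner (fun n : N => (χ : G → ℂ) n) (θ : N → ℂ) ≠ 0) :
    ∃ B : Set (Cfsg.IrrCharacter (CharInduce.inertia N (θ : N → ℂ))),
      Cfsg.IsPBlock M B ∧ (Cfsg.blockOf M (χ : G → ℂ)).ncard ≤ B.ncard ∧
        Cfsg.blockDefect p B = Cfsg.blockDefect p (Cfsg.blockOf M (χ : G → ℂ)) := by
  classical
  set T := CharInduce.inertia N (θ : N → ℂ)
  haveI := Fintype.ofFinite T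
  have hNT : N ≤ T := CharInduce.le_inertia N (CharBasic.IsIrr.isClassFunction θ.2)
  have hb := H82.isPBlock_singleton hM hN θ
  have hs : H1.IsBlockStab N T ({θ} : Set (Cfsg.IrrCharacter N)) := by
    refine ⟨fun g hg φ hφ => ?_, fun g hg φ hφ hmem => hg ?_⟩
    · obtain rfl := Set.mem_singleton_iff.1 hφ
      exact Set.mem_singleton_iff.2 (Subtype.ext hg)
    · obtain rfl := Set.mem_singleton_iff.1 hφ
      exact congrArg Subtype.val (Set.mem_singleton_iff.1 hmem)
  have hc : H1.CoversG ({θ} : Set (Cfsg.IrrCharacter N)) (χ : G → ℂ) :=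
    ⟨θ, rfl, hχ⟩
  obtain ⟨ψ₀, hψ₀, hχ₀⟩ := H1.exists_of_coversG hs hNT hc
  set B := Cfsg.blockOf M (χ : G → ℂ)
  set BT := Cfsg.blockOf M (ψ₀ : T → ℂ)
  have hdown : ∀ χ' ∈ B, ∃ ψ ∈ BT, (χ' : G → ℂ) = Cfsg.indFun T (ψ : T → ℂ) := by
    intro χ' hχ'
    obtain ⟨ψ, hψ, he⟩ := H1.exists_of_coversG hs hNT
      (H1.coversG_of_sameBlock hs hNT hM hb hc hχ')
    refine ⟨ψ, (H1.sameBlock_iff_indFun hs hNT hM hb hψ₀ hψ).1 ?_, he⟩
    rw [← he, ← hχ₀]
    exact hχ'
  have hup : ∀ ψ ∈ BT, ∃ χ' ∈ B, (χ' : G → ℂ) = Cfsg.indFun T (ψ : T → ℂ) := by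
    intro ψ hψ
    have hcov := H1.covers_of_sameBlock hs hNT hM hb hψ₀ hψ
    refine ⟨⟨_, H1.isIrr_indFun hs hNT hcov⟩, ?_, rfl⟩
    show Cfsg.SameBlock M (χ : G → ℂ) (Cfsg.indFun T (ψ : T → ℂ))
    rw [hχ₀]
    exact (H1.sameBlock_iff_indFun hs hNT hM hb hψ₀ hcov).2 hψ
  refine ⟨BT, ⟨ψ₀, rfl⟩, ?_, ?_⟩
  · choose f hf hfe using fun χ' : B => hdown χ' χ'.2
    rw [← Nat.card_coe_set_eq, ← Nat.card_coe_set_eq]
    exact Nat.card_le_card_of_injective (fun χ' : B => (⟨f χ', hf χ'⟩ : BT)) fun a b hab =>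
      Subtype.ext (Subtype.ext (by rw [hfe a, hfe b, show f a = f b from congrArg Subtype.val hab]))
  · have hi : T.index ≠ 0 := Subgroup.index_ne_zero_of_finite
    have hdeg : ∀ (χ' : Cfsg.IrrCharacter G) (ψ : Cfsg.IrrCharacter T),
        (χ' : G → ℂ) = Cfsg.indFun T (ψ : T → ℂ) →
        (Cfsg.charDegree (χ' : G → ℂ)).factorization p =
          T.index.factorization p + (Cfsg.charDegree (ψ : T → ℂ)).factorization p := by
      intro χ' ψ he
      rw [charDegree_indFun he, Nat.factorization_mul hi (charDegree_pos ψ).ne', Finsupp.add_apply]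
    set c := T.index.factorization p
    set SG := sInf ((fun χ' : Cfsg.IrrCharacter G =>
      (Cfsg.charDegree (χ' : G → ℂ)).factorization p) '' B) with hSG
    set ST := sInf ((fun ψ : Cfsg.IrrCharacter T =>
      (Cfsg.charDegree (ψ : T → ℂ)).factorization p) '' BT) with hST
    have hS : SG = c + ST := by
      refine le_antisymm ?_ ?_
      · obtain ⟨ψ, hψ, he⟩ := Nat.sInf_mem (s := (fun ψ : Cfsg.IrrCharacter T =>
          (Cfsg.charDegree (ψ : T → ℂ)).factorization p) '' BT) (Set.Nonempty.image _ (⟨ψ₀, self_mem_blockOf hM ψ₀⟩ : BT.Nonempty))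
        obtain ⟨χ', hχ', hind⟩ := hup ψ hψ
        rw [hSG, hST, ← he]
        exact (Nat.sInf_le (Set.mem_image_of_mem _ hχ')).trans (hdeg χ' ψ hind).le
      · refine le_csInf (Set.Nonempty.image _ (⟨χ, self_mem_blockOf hM χ⟩ : B.Nonempty)) ?_
        rintro _ ⟨χ', hχ', rfl⟩
        obtain ⟨ψ, hψ, he⟩ := hdown χ' hχ'
        show c + ST ≤ (Cfsg.charDegree (χ' : G → ℂ)).factorization p
        rw [hdeg χ' ψ he]
        exact Nat.add_le_add_left (Nat.sInf_le (Set.mem_image_of_mem _ hψ)) c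
    have hcard : (Nat.card G).factorization p = c + (Nat.card T).factorization p := by
      rw [← T.index_mul_card, Nat.factorization_mul hi Nat.card_pos.ne', Finsupp.add_apply]
    show _ - ST = _ - SG
    rw [hS, hcard]
    omega

/-- **The number of characters of a block of a solvable group.** -/
theorem ncard_block_le : ∀ (m : ℕ) (G : Type u) [Group G] [Finite G] [Group.IsSolvable G],
    Nat.card G ≤ m → Cfsg.IsPModular p M → ∀ B : Set (Cfsg.IrrCharacter G), Cfsg.IsPBlock M B →
    B.ncard ≤ 3 ^ (Cfsg.blockDefect p B - 1) * p ^ Cfsg.blockDefect p B := by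
  intro m
  induction m with
  | zero => intro G _ _ _ h; exact absurd h (not_le.2 Nat.card_pos)
  | succ m ih =>
    intro G _ _ _ hm hM B hB
    classical
    haveI := Fintype.ofFinite G
    set N := Cfsg.pPrimeCore p G with hNdef
    haveI hNn : N.Normal := inferInstance
    haveI := Fintype.ofFinite N
    have hNp : ¬ p ∣ Nat.card N := Cores.not_dvd_card_pPrimeCore
    obtain ⟨χ, rfl⟩ := hB
    obtain ⟨θ, hθ⟩ := exists_constituent χ N
    by_cases hinv : ∀ g : G, CharInduce.conjFun N (θ : N → ℂ) g = θ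
    · obtain ⟨B₀, hB₀, hmem, -, hD, -⟩ := single_block_over_pPrimeCore hM
        (Cores.isPConstrained_of_isPSolvable Cores.isPSolvable_of_isSolvable) N hNdef
        (θ := θ) (fun d => Subtype.ext (by
          funext n; rw [H80.conjTwist_apply]; exact congrFun (hinv d) n))
      have heq : B₀ = Cfsg.blockOf M (χ : G → ℂ) := by
        obtain ⟨χ₀, hχ₀⟩ := hB₀
        have h : Cfsg.SameBlock M (χ₀ : G → ℂ) (χ : G → ℂ) := by
          have := (hmem χ).2 hθ
          rw [hχ₀] at this
          exact this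
        rw [hχ₀]
        exact Set.ext fun ψ => ⟨fun hψ => sameBlock_trans hM (sameBlock_symm h) hψ,
          fun hψ => sameBlock_trans hM h hψ⟩
      have hdef : Cfsg.blockDefect p (Cfsg.blockOf M (χ : G → ℂ)) =
          (Nat.card (G ⧸ N)).factorization p := by
        let P : Sylow p G := default
        have h1 := H35.card_defectGroup hM hB₀ (hD P)
        rw [P.card_eq_multiplicity, heq] at h1
        rw [← Nat.pow_right_injective hp.out.two_le h1, N.card_eq_card_quotient_mul_card_subgroup,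
          Nat.factorization_mul Nat.card_pos.ne' Nat.card_pos.ne', Finsupp.add_apply,
          Nat.factorization_eq_zero_of_not_dvd hNp, add_zero]
      haveI : Group.IsSolvable (G ⧸ N) :=
        Group.isSolvable_of_surjective (QuotientGroup.mk'_surjective N)
      rw [hdef]
      refine le_trans ?_ (kcard_le_of_pPrimeCore_eq_bot _ (G ⧸ N) le_rfl
        Cores.pPrimeCore_quotient_pPrimeCore)
      refine le_trans (le_of_eq ?_) (card_over_le θ.2 hinv)
      rw [← heq, ← Nat.card_coe_set_eq]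
      exact Nat.card_congr (Equiv.subtypeEquivRight hmem)
    · obtain ⟨BT, hBT, hle, hd⟩ := exists_block_inertia hM N hNp θ χ hθ
      have hne : CharInduce.inertia N (θ : N → ℂ) ≠ ⊤ := fun h =>
        hinv fun g => (h ▸ Subgroup.mem_top g : g ∈ CharInduce.inertia N (θ : N → ℂ))
      have hlt : Nat.card (CharInduce.inertia N (θ : N → ℂ)) ≤ m := by
        have h1 : Nat.card (CharInduce.inertia N (θ : N → ℂ)) ≠ Nat.card G := fun h =>
          hne (Subgroup.eq_top_of_card_eq _ h)
        have h2 := Subgroup.card_le_card_group (CharInduce.inertia N (θ : N → ℂ))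
        omega
      haveI : Group.IsSolvable (CharInduce.inertia N (θ : N → ℂ)) := inferInstance
      have h := ih (CharInduce.inertia N (θ : N → ℂ)) hlt hM BT hBT
      rw [hd] at h
      exact hle.trans h

end Cfsg.Agent.H35.SolvBlock
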